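import Cfsg.Agent.Lib.PGroup.UnitAll.Counts

/-!
Numerical facts about small actions of unitary groups.
-/

set_option autoImplicit false
set_option linter.unusedSectionVars false

namespace CfsgLib.PGroup.UnitAll

open CfsgLib.SU CfsgLib.Classical CfsgLib.Classical.HermIsoCount CfsgLib.PGroup.UnitIndex

variable {F : Type*} [Field F] [Fintype F] {q : ℕ} {C : UCtx F q}

theorem q_ge_two (hF : Fintype.card F = q ^ 2) : 2 ≤ q := two_le_q hF

/-- A set smaller than the minimal index. -/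
def Small (C : UCtx F q) (n x : ℕ) : Prop :=
  (q ^ 2 - 1) * x < isoCount C n ∧
    (q ^ 2 - 1) * x < (q ^ 2 - 1) * q ^ (2 * (n - 2) + 1) + q ^ 2 * hcount C (n - 2) 1

variable (hF : Fintype.card F = q ^ 2) {k : ℕ}
include hF

theorem isoCount_lower (hk : 1 ≤ k) : q ^ (2 * k - 1) ≤ isoCount C k + q ^ k := by
  have hq : (1 : ℤ) ≤ q := by exact_mod_cast (q_ge_two hF).trans' one_le_two
  have hp : (q : ℤ) ^ (k - 1) ≤ (q : ℤ) ^ k := pow_le_pow_right₀ hq (Nat.sub_le k 1)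
  have hp0 : (1 : ℤ) ≤ (q : ℤ) ^ (k - 1) := one_le_pow₀ hq
  zify
  rw [isoCount_int hF hk]
  rcases neg_one_pow_eq_or ℤ k with h | h <;> rw [h] <;> linarith

theorem isoCount_even (hk : 1 ≤ k) (he : Even k) : q ^ (2 * k - 1) ≤ isoCount C k := by
  have hq : (2 : ℤ) ≤ q := by exact_mod_cast q_ge_two hF
  have hp : (2 : ℤ) * (q : ℤ) ^ (k - 1) ≤ (q : ℤ) ^ k := by
    obtain ⟨m, rfl⟩ : ∃ m, k = m + 1 := ⟨k - 1, by omega⟩
    rw [Nat.add_sub_cancel, pow_succ']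
    exact mul_le_mul_of_nonneg_right hq (by positivity)
  have hp0 : (1 : ℤ) ≤ (q : ℤ) ^ (k - 1) := one_le_pow₀ (by linarith)
  zify
  rw [isoCount_int hF hk, he.neg_one_pow]
  linarith

theorem hcount_one_lower (hk : 1 ≤ k) : q ^ (2 * k - 1) ≤ hcount C k 1 + q ^ (k - 1) := by
  have hp0 : (0 : ℤ) ≤ (q : ℤ) ^ (k - 1) := by positivity
  zify
  rw [hcount_int hF hk]
  rcases neg_one_pow_eq_or ℤ k with h | h <;> rw [h] <;> linarith

theorem hcount_one_upper (hk : 1 ≤ k) : hcount C k 1 ≤ q ^ (2 * k - 1) + q ^ (k - 1) := by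
  have hp0 : (0 : ℤ) ≤ (q : ℤ) ^ (k - 1) := by positivity
  zify
  rw [hcount_int hF hk]
  rcases neg_one_pow_eq_or ℤ k with h | h <;> rw [h] <;> linarith

variable {n x : ℕ} (hn : n = k + 2) (hk : 3 ≤ k) (hs : Small C n x)
include hn hk hs

theorem small_upper : (q ^ 2 - 1) * x < (q ^ 2 - 1) * q ^ (2 * k + 1) + 2 * q ^ (2 * k + 1) := by
  have h := hs.2
  rw [hn, Nat.add_sub_cancel] at h
  have h1 := Nat.mul_le_mul_left (q ^ 2) (hcount_one_upper (C := C) hF (show 1 ≤ k by omega))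
  rw [mul_add, ← pow_add, ← pow_add, show 2 + (2 * k - 1) = 2 * k + 1 by omega,
    show 2 + (k - 1) = k + 1 by omega] at h1
  have h2 : q ^ (k + 1) ≤ q ^ (2 * k + 1) :=
    Nat.pow_le_pow_right (Nat.pos_of_ne_zero C.q_ne_zero) (by omega)
  omega

theorem small_lt : x < 2 * q ^ (2 * k + 1) := by
  have h := small_upper hF hn hk hs
  have h3 : 4 ≤ q ^ 2 := Nat.pow_le_pow_left (q_ge_two hF) 2
  refine Nat.lt_of_mul_lt_mul_left (a := q ^ 2 - 1) (h.trans_le ?_)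
  rw [← add_mul, mul_left_comm]
  calc (q ^ 2 - 1 + 2) * q ^ (2 * k + 1) ≤ (2 * (q ^ 2 - 1)) * q ^ (2 * k + 1) :=
        Nat.mul_le_mul_right _ (by omega)
    _ = _ := by ring

theorem small_not_fix (h : (q - 1) * q ^ (2 * k + 1) ≤ (q - 2) * x) : False := by
  have h1 := small_upper hF hn hk hs
  have hq := q_ge_two hF
  have hM : 0 < q ^ (2 * k + 1) := pow_pos (by omega) _
  obtain ⟨r, rfl⟩ : ∃ r, q = r + 2 := ⟨q - 2, by omega⟩
  rw [show r + 2 - 1 = r + 1 by omega, show r + 2 - 2 = r by omega] at h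
  rw [show (r + 2) ^ 2 - 1 = r * r + 4 * r + 3 by
    have : (r + 2) ^ 2 = r * r + 4 * r + 4 := by ring
    omega] at h1
  nlinarith [Nat.mul_le_mul_left (r * r + 4 * r + 3) h, Nat.mul_le_mul_left r h1.le, Nat.zero_le x]

/-- The bound for few vectors in the stabiliser. -/
theorem small_one {L u K : ℕ} (hL : q ^ (2 * k - 1) ≤ L + q ^ k) (hK : L ≤ K * (u - 1))
    (hX : q ^ (2 * k + 1) * K ≤ x * u) (hu : u ≤ q ^ (k - 1)) : False := by
  have hq := q_ge_two hF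
  have hlt := small_lt hF hn hk hs
  set B := q ^ (k - 1) * (q ^ (k - 1) - 1) with hB
  have hBpos : 0 < B := Nat.mul_pos (pow_pos (by omega) _)
    (Nat.sub_pos_of_lt (Nat.one_lt_pow (by omega) (by omega)))
  have hBL : q * B ≤ L := by
    rw [hB, Nat.mul_sub_one, Nat.mul_sub, ← pow_add, ← pow_succ', ← pow_succ',
      show k - 1 + (k - 1) + 1 = 2 * k - 1 by omega, show k - 1 + 1 = k by omega]
    omega
  have h1 : q * q ^ (2 * k + 1) * B ≤ x * B := by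
    calc q * q ^ (2 * k + 1) * B = q ^ (2 * k + 1) * (q * B) := by ring
      _ ≤ q ^ (2 * k + 1) * (K * (u - 1)) := Nat.mul_le_mul_left _ (hBL.trans hK)
      _ = q ^ (2 * k + 1) * K * (u - 1) := by ring
      _ ≤ x * u * (u - 1) := Nat.mul_le_mul_right _ hX
      _ ≤ x * q ^ (k - 1) * (q ^ (k - 1) - 1) :=
          Nat.mul_le_mul (Nat.mul_le_mul_left _ hu) (Nat.sub_le_sub_right hu _)
      _ = _ := by rw [hB, mul_assoc]
  have h2 := Nat.le_of_mul_le_mul_right h1 hBpos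
  have := Nat.mul_le_mul_right (q ^ (2 * k + 1)) hq
  omega

variable {u K : ℕ} (hX : q ^ (2 * k + 1) * K ≤ x * u) (hu : u ≤ q ^ k)
include hX hu

/-- The bound for mixed vectors in the stabiliser. -/
theorem small_mixed (hk4 : 4 ≤ k)
    (hK : isoCount C k * q ^ (2 * k - 3) ≤ K * (q ^ (k - 1) * (u - 1))) : False := by
  have hq := q_ge_two hF
  have hlt := small_lt hF hn hk hs
  have h1 : q ^ (2 * k + 1) * isoCount C k * q ^ (2 * k - 3) ≤
      x * (q ^ 2 * (q ^ k - 1)) * q ^ (2 * k - 3) := by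
    calc q ^ (2 * k + 1) * isoCount C k * q ^ (2 * k - 3)
        ≤ q ^ (2 * k + 1) * (K * (q ^ (k - 1) * (u - 1))) := by
          rw [mul_assoc]; exact Nat.mul_le_mul_left _ hK
      _ = q ^ (2 * k + 1) * K * (q ^ (k - 1) * (u - 1)) := by ring
      _ ≤ x * u * (q ^ (k - 1) * (u - 1)) := Nat.mul_le_mul_right _ hX
      _ ≤ x * q ^ k * (q ^ (k - 1) * (q ^ k - 1)) :=
          Nat.mul_le_mul (Nat.mul_le_mul_left _ hu) (Nat.mul_le_mul_left _ (Nat.sub_le_sub_right hu _))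
      _ = x * (q ^ k * q ^ (k - 1)) * (q ^ k - 1) := by ring
      _ = x * (q ^ 2 * q ^ (2 * k - 3)) * (q ^ k - 1) := by
          rw [← pow_add, ← pow_add, show k + (k - 1) = 2 + (2 * k - 3) by omega]
      _ = _ := by ring
  have h2 := Nat.le_of_mul_le_mul_right h1 (pow_pos (by omega) _)
  have hpos : 0 < q ^ 2 * (q ^ k - 1) :=
    Nat.mul_pos (pow_pos (by omega) _) (Nat.sub_pos_of_lt (Nat.one_lt_pow (by omega) (by omega)))
  have h3 : q ^ (2 * k + 1) * isoCount C k < q ^ (2 * k + 1) * (2 * (q ^ 2 * (q ^ k - 1))) := by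
    refine h2.trans_lt ((Nat.mul_lt_mul_of_pos_right hlt hpos).trans_eq ?_)
    ring
  have h4 := Nat.lt_of_mul_lt_mul_left h3
  rw [Nat.mul_sub_one, ← pow_add, Nat.mul_sub] at h4
  rcases eq_or_lt_of_le hk4 with rfl | hk5
  · have h5 := isoCount_even (C := C) hF (show 1 ≤ 4 by omega) ⟨2, rfl⟩
    have h6 : 2 * q ^ 6 ≤ q ^ 7 := by rw [pow_succ' q 6]; exact Nat.mul_le_mul_right _ hq
    norm_num at h4 h5
    omega
  · have h5 := isoCount_lower (C := C) hF (show 1 ≤ k by omega)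
    have h6 : q ^ (k + 4) ≤ q ^ (2 * k - 1) := Nat.pow_le_pow_right (by omega) (by omega)
    have h7 : 4 * q ^ (2 + k) ≤ q ^ (k + 4) := by
      rw [show k + 4 = 2 + (2 + k) by omega, pow_add q 2 (2 + k)]
      exact Nat.mul_le_mul_right _ (Nat.pow_le_pow_left hq 2)
    have h8 : q ^ k ≤ q ^ (2 + k) := Nat.pow_le_pow_right (by omega) (by omega)
    omega

/-- The bound for pairs of isotropic vectors in the stabiliser. -/
theorem small_gram (hk4 : 4 ≤ k) (hK : 2 * (isoCount C k * q ^ (2 * k - 3)) ≤ K * (u * u)) : False := by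
  have hq := q_ge_two hF
  have hlt := small_lt hF hn hk hs
  have h1 : q ^ (2 * k + 1) * (2 * (isoCount C k * q ^ (2 * k - 3))) ≤ x * (q ^ k * (q ^ k * q ^ k)) := by
    calc _ ≤ q ^ (2 * k + 1) * (K * (u * u)) := Nat.mul_le_mul_left _ hK
      _ = q ^ (2 * k + 1) * K * (u * u) := by ring
      _ ≤ x * u * (u * u) := Nat.mul_le_mul_right _ hX
      _ = x * (u * (u * u)) := by ring
      _ ≤ _ := Nat.mul_le_mul_left _ (Nat.mul_le_mul hu (Nat.mul_le_mul hu hu))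
  have h3 : q ^ (2 * k + 1) * (2 * (isoCount C k * q ^ (2 * k - 3))) <
      q ^ (2 * k + 1) * (2 * (q ^ (k + 3) * q ^ (2 * k - 3))) := by
    refine h1.trans_lt ((Nat.mul_lt_mul_of_pos_right hlt (by positivity)).trans_eq ?_)
    rw [← pow_add, ← pow_add, ← pow_add, show k + 3 + (2 * k - 3) = k + (k + k) by omega]
    ring
  have h4 := Nat.lt_of_mul_lt_mul_right (Nat.lt_of_mul_lt_mul_left (Nat.lt_of_mul_lt_mul_left h3))
  rcases eq_or_lt_of_le hk4 with rfl | hk5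
  · have h5 := isoCount_even (C := C) hF (show 1 ≤ 4 by omega) ⟨2, rfl⟩
    norm_num at h4 h5
    omega
  · have h5 := isoCount_lower (C := C) hF (show 1 ≤ k by omega)
    have h6 : q ^ (k + 4) ≤ q ^ (2 * k - 1) := Nat.pow_le_pow_right (by omega) (by omega)
    have h7 : 2 * q ^ (k + 3) ≤ q ^ (k + 4) := by
      rw [pow_succ' q (k + 3)]
      exact Nat.mul_le_mul_right _ hq
    have h8 : q ^ k ≤ q ^ (k + 3) := Nat.pow_le_pow_right (by omega) (by omega)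
    omega

/-- The bound for totally isotropic planes in the stabiliser. -/
theorem small_planes (hk4 : 4 ≤ k) (he : Even k)
    (hK : isoCount C k * (q ^ 2 * isoCount C (k - 2)) ≤ K * ((u - 1) * (q ^ k - q ^ 2))) : False := by
  have hq := q_ge_two hF
  have hlt := small_lt hF hn hk hs
  have hle : q ^ 2 ≤ q ^ k := Nat.pow_le_pow_right (by omega) (by omega)
  have hpos : 0 < q ^ k - q ^ 2 :=
    Nat.sub_pos_of_lt (Nat.pow_lt_pow_right (by omega) (by omega))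
  have hqk : 1 ≤ q ^ k := Nat.one_le_pow _ _ (by omega)
  have e1 : isoCount C k = (q ^ k - 1) * (q ^ (k - 1) + 1) := by
    zify [hqk]
    rw [isoCount_int hF (show 1 ≤ k by omega), he.neg_one_pow, show 2 * k - 1 = k + (k - 1) by omega, pow_add]
    ring
  have e2 : q ^ 2 * isoCount C (k - 2) = (q ^ k - q ^ 2) * (q ^ (k - 3) + 1) := by
    obtain ⟨m, rfl⟩ : ∃ m, k = m + 4 := ⟨k - 4, by omega⟩
    rw [show m + 4 - 2 = m + 2 by omega, show m + 4 - 3 = m + 1 by omega]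
    zify [hle]
    have he' : Even (m + 2) := by obtain ⟨a, ha⟩ := he; exact ⟨a - 1, by omega⟩
    rw [isoCount_int hF (show 1 ≤ m + 2 by omega), he'.neg_one_pow, show 2 * (m + 2) - 1 = m + 2 + (m + 1) by omega,
      show m + 2 - 1 = m + 1 by omega, pow_add]
    ring
  rw [e2, e1] at hK
  have h1 : (q ^ k - q ^ 2) * (q ^ k - 1) * (q ^ (2 * k + 1) * ((q ^ (k - 1) + 1) * (q ^ (k - 3) + 1))) ≤
      (q ^ k - q ^ 2) * (q ^ k - 1) * (x * q ^ k) := by
    calc _ = q ^ (2 * k + 1) * ((q ^ k - 1) * (q ^ (k - 1) + 1) * ((q ^ k - q ^ 2) * (q ^ (k - 3) + 1))) := by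
          ring
      _ ≤ q ^ (2 * k + 1) * (K * ((u - 1) * (q ^ k - q ^ 2))) := Nat.mul_le_mul_left _ hK
      _ = (q ^ k - q ^ 2) * (u - 1) * (q ^ (2 * k + 1) * K) := by ring
      _ ≤ (q ^ k - q ^ 2) * (q ^ k - 1) * (x * q ^ k) :=
          Nat.mul_le_mul (Nat.mul_le_mul_left _ (Nat.sub_le_sub_right hu _))
            (hX.trans (Nat.mul_le_mul_left _ hu))
  have h2 := Nat.le_of_mul_le_mul_left h1
    (Nat.mul_pos hpos (Nat.sub_pos_of_lt (Nat.one_lt_pow (by omega) (by omega))))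
  rcases eq_or_lt_of_le hk4 with rfl | hk5
  · have hX4 := hs.1
    rw [hn] at hX4
    have h6 : isoCount C 6 = (q ^ 2 - 1) * (q ^ 9 + q ^ 7 + q ^ 5 + q ^ 4 + q ^ 2 + 1) := by
      have h1' : 1 ≤ q ^ 2 := Nat.one_le_pow _ _ (by omega)
      zify [h1']
      rw [isoCount_int hF (by norm_num : 1 ≤ 6)]
      norm_num
      ring
    norm_num at h2 hX4
    rw [h6] at hX4
    have hX5 := Nat.lt_of_mul_lt_mul_left hX4
    have h7 : q ^ 4 * (q ^ 9 + q ^ 7 + q ^ 5 + q ^ 4 + q ^ 2 + 1) ≤ q ^ 9 * ((q ^ 3 + 1) * (q + 1)) := by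
      have a1 : 2 * q ^ 11 ≤ q ^ 12 := by rw [pow_succ' q 11]; exact Nat.mul_le_mul_right _ hq
      have a2 : q ^ 8 ≤ q ^ 11 := Nat.pow_le_pow_right (by omega) (by omega)
      have a3 : 2 * q ^ 6 ≤ q ^ 10 := by
        rw [pow_add q 4 6]; exact Nat.mul_le_mul_right _ ((by norm_num : 2 ≤ 2 ^ 4).trans (Nat.pow_le_pow_left hq 4))
      have a4 : q ^ 4 ≤ q ^ 6 := Nat.pow_le_pow_right (by omega) (by omega)
      ring_nf
      omega
    have h8 := Nat.mul_lt_mul_of_pos_left hX5 (pow_pos (show 0 < q by omega) 4)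
    nlinarith
  · have hk6 : 6 ≤ k := by obtain ⟨a, rfl⟩ := he; omega
    have h4 : 4 * q ^ k ≤ (q ^ (k - 1) + 1) * (q ^ (k - 3) + 1) := by
      refine le_trans ?_ (Nat.mul_le_mul (Nat.le_succ _) (Nat.le_succ _))
      rw [← pow_add, show k - 1 + (k - 3) = (k - 4) + k by omega, pow_add]
      exact Nat.mul_le_mul_right _ ((Nat.pow_le_pow_left hq 2).trans
        (Nat.pow_le_pow_right (show 0 < q by omega) (by omega)))
    have h5 := (Nat.mul_le_mul_left (q ^ (2 * k + 1)) h4).trans h2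
    have h6 : q ^ (2 * k + 1) * 4 ≤ x :=
      Nat.le_of_mul_le_mul_right (by rw [mul_assoc]; exact h5) (pow_pos (show 0 < q by omega) k)
    omega

omit hk in
/-- The bound in dimension five. -/
theorem small_three (hk3 : k = 3)
    (hK : isoCount C k * (q ^ 3 + q ^ 2) ≤ K * (q ^ 2 * (u - 1))) : False := by
  subst hk3
  have hq := q_ge_two hF
  have h1 : q ^ 2 * (q ^ 7 * isoCount C 3 * (q + 1)) ≤ q ^ 2 * (x * (q ^ 3 * (q ^ 3 - 1))) := by
    calc q ^ 2 * (q ^ 7 * isoCount C 3 * (q + 1)) = q ^ 7 * (isoCount C 3 * (q ^ 3 + q ^ 2)) := by ring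
      _ ≤ q ^ 7 * (K * (q ^ 2 * (u - 1))) := Nat.mul_le_mul_left _ hK
      _ = q ^ 2 * (q ^ 7 * K * (u - 1)) := by ring
      _ ≤ q ^ 2 * (x * u * (u - 1)) := Nat.mul_le_mul_left _ (Nat.mul_le_mul_right _ hX)
      _ ≤ q ^ 2 * (x * q ^ 3 * (q ^ 3 - 1)) :=
          Nat.mul_le_mul_left _ (Nat.mul_le_mul (Nat.mul_le_mul_left _ hu) (Nat.sub_le_sub_right hu _))
      _ = _ := by ring
  have h2 := Nat.le_of_mul_le_mul_left h1 (pow_pos (by omega) _)
  have h3 := hs.1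
  rw [hn] at h3
  have hc : 1 ≤ q ^ 3 := Nat.one_le_pow _ _ (by omega)
  have hd : 1 ≤ q ^ 2 := Nat.one_le_pow _ _ (by omega)
  zify [hc, hd] at h2 h3
  rw [isoCount_int hF (by norm_num : 1 ≤ 3)] at h2
  rw [isoCount_int hF (by norm_num : 1 ≤ 3 + 2)] at h3
  norm_num at h2 h3
  have hqz : (2 : ℤ) ≤ q := by exact_mod_cast hq
  generalize (q : ℤ) = Q at h2 h3 hqz
  generalize (x : ℤ) = Y at h2 h3
  have hB : 0 < Q ^ 3 * (Q ^ 3 - 1) := by
    have : (1 : ℤ) < Q ^ 3 := one_lt_pow₀ (by linarith) (by norm_num)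
    nlinarith
  have hQ2 : (0 : ℤ) ≤ Q ^ 2 - 1 := by nlinarith
  have h4 : (Q ^ 2 - 1) * (Q ^ 7 * ((Q ^ 5 + -1 * (Q ^ 3 - Q ^ 2) - 1)) * (Q + 1)) <
      (Q ^ 9 - (Q ^ 5 - Q ^ 4) - 1) * (Q ^ 3 * (Q ^ 3 - 1)) := by
    calc _ ≤ (Q ^ 2 - 1) * (Y * (Q ^ 3 * (Q ^ 3 - 1))) := by
          refine mul_le_mul_of_nonneg_left (le_trans (le_of_eq ?_) h2) hQ2
          ring
      _ = (Q ^ 2 - 1) * Y * (Q ^ 3 * (Q ^ 3 - 1)) := by ring
      _ < _ := mul_lt_mul_of_pos_right (by linarith) hB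
  have h5 : 0 ≤ Q ^ 7 * (Q - 1) ^ 2 + (Q ^ 6 - Q ^ 5 - Q ^ 4 - Q ^ 3) + Q ^ 2 + 1 := by
    have b1 : Q ^ 7 * 1 ≤ Q ^ 7 * (Q - 1) ^ 2 :=
      mul_le_mul_of_nonneg_left (one_le_pow₀ (by linarith)) (by positivity)
    have b2 : 2 * Q ^ 6 ≤ Q ^ 7 := by rw [pow_succ' Q 6]; exact mul_le_mul_of_nonneg_right hqz (by positivity)
    have b3 : Q ^ 5 ≤ Q ^ 6 := pow_le_pow_right₀ (by linarith) (by norm_num)
    have b4 : Q ^ 4 ≤ Q ^ 6 := pow_le_pow_right₀ (by linarith) (by norm_num)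
    have b5 : Q ^ 3 ≤ Q ^ 6 := pow_le_pow_right₀ (by linarith) (by norm_num)
    linarith [sq_nonneg Q]
  nlinarith [mul_nonneg (mul_nonneg (pow_nonneg (show (0:ℤ) ≤ Q by linarith) 3) hQ2) h5]

end CfsgLib.PGroup.UnitAll
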