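import Cfsg.Agent.Lib.PGroup.UnitAll.Pairing

/-!
Exact counts in the orthogonal of a hyperbolic pair, and transitivity on some pairs.
-/

set_option autoImplicit false
set_option linter.unusedSectionVars false

namespace CfsgLib.PGroup.UnitAll

open Matrix Module CfsgLib.SU CfsgLib.Classical CfsgLib.Classical.HermIsoCount CfsgLib.PGroup.UnitIndex

variable {F : Type*} [Field F] [Fintype F] {q : ℕ} {C : UCtx F q} {n : ℕ}

local notation "V" => (Fin n → F)

theorem isoCount_int (hF : Fintype.card F = q ^ 2) {k : ℕ} (hk : 1 ≤ k) :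
    (isoCount C k : ℤ) = (q : ℤ) ^ (2 * k - 1) + (-1) ^ k * ((q : ℤ) ^ k - (q : ℤ) ^ (k - 1)) - 1 := by
  obtain ⟨m, rfl⟩ : ∃ m, k = m + 1 := ⟨k - 1, by omega⟩
  rw [isoCount_eq C hF m, show 2 * (m + 1) - 1 = 2 * m + 1 by omega, Nat.add_sub_cancel]

theorem hcount_int (hF : Fintype.card F = q ^ 2) {k : ℕ} (hk : 1 ≤ k) :
    (hcount C k 1 : ℤ) = (q : ℤ) ^ (2 * k - 1) - (-1) ^ k * (q : ℤ) ^ (k - 1) := by
  obtain ⟨m, rfl⟩ : ∃ m, k = m + 1 := ⟨k - 1, by omega⟩
  rw [(hcount_closed C hF m).2, show 2 * (m + 1) - 1 = 2 * m + 1 by omega, Nat.add_sub_cancel]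

theorem hcount_zero_eq (hF : Fintype.card F = q ^ 2) {k : ℕ} (hk : 1 ≤ k) :
    hcount C k 0 = isoCount C k + 1 := by
  obtain ⟨m, rfl⟩ : ∃ m, k = m + 1 := ⟨k - 1, by omega⟩
  zify
  rw [(hcount_closed C hF m).1, isoCount_eq C hF m]
  ring

/-- The count for the whole space from the counts for the orthogonal of a pair. -/
theorem isoCount_add_two (hF : Fintype.card F = q ^ 2) {k : ℕ} (hk : 1 ≤ k) :
    isoCount C (k + 2) = (q ^ 2 - 1) * q ^ (2 * k + 1) + q ^ 2 * isoCount C k + (q ^ 2 - 1) := by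
  have h1 : 1 ≤ q ^ 2 := Nat.one_le_pow _ _ (Nat.pos_of_ne_zero C.q_ne_zero)
  zify [h1]
  obtain ⟨m, rfl⟩ : ∃ m, k = m + 1 := ⟨k - 1, by omega⟩
  rw [show m + 1 + 2 = (m + 2) + 1 from rfl, isoCount_eq C hF (m + 2), isoCount_eq C hF m]
  ring

variable (P : UPair C n)

/-- The number of isotropic vectors of the orthogonal. -/
theorem sph_iso (hF : Fintype.card F = q ^ 2) (hn : 3 ≤ n) :
    (sph P 0 \ {0}).ncard = isoCount C (n - 2) := by
  rw [Set.ncard_sdiff_singleton_of_mem (show (0 : V) ∈ sph P 0 from ⟨P.perp.zero_mem, C.form_zero_left _⟩),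
    sph_ncard, hcount_zero_eq hF (by omega), Nat.add_sub_cancel]

/-- The number of anisotropic vectors of a given norm. -/
theorem sph_aniso {c : F} (hc : C.bar c = c) (hc0 : c ≠ 0) :
    (sph P c \ {0}).ncard = hcount C (n - 2) 1 := by
  rw [Set.sdiff_singleton_eq_self (fun h => hc0 (h.2.symm.trans (C.form_zero_left _))), sph_ncard,
    hcount_scale C _ hc hc0]

/-- The vectors of a given norm orthogonal to an isotropic vector. -/
theorem slice_iso_zero (hF : Fintype.card F = q ^ 2) (hn : 5 ≤ n) {a : V} (ha : a ∈ P.perp) (ha0 : a ≠ 0)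
    (haa : C.form a a = 0) {c : F} (hc : C.bar c = c) (hc0 : c ≠ 0) :
    q ^ 2 * hcount C (n - 4) 1 ≤ (slice P a 0 c).ncard := by
  classical
  obtain ⟨φ, hφ, hinj, hsurj, hform⟩ := exists_coord P
  obtain ⟨m, hm⟩ : ∃ m, n - 2 = m + 2 := ⟨n - 4, by omega⟩
  let e : Fin (n - 2) ≃ Fin (m + 2) := finCongr hm
  let tr : (Fin (m + 2) → F) →ₗ[F] (Fin (n - 2) → F) := LinearMap.funLeft F F e
  have htr : ∀ a b, C.form (tr a) (tr b) = C.form a b := fun a b => by
    show ∑ i, a (e i) * C.bar (b (e i)) = ∑ i, a i * C.bar (b i)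
    exact e.sum_comp (fun i => a i * C.bar (b i))
  obtain ⟨z, hz⟩ := C.exists_norm (c := (-1 : F)) (by rw [map_neg, map_one])
  set v0 : Fin (m + 2) → F := Fin.cons 1 (Fin.cons z 0) with hv0
  have hv00 : C.form v0 v0 = 0 := by
    rw [hv0, form_cons, form_cons, C.form_zero_left, hz, map_one]; ring
  have hv0ne : v0 ≠ 0 := fun h => one_ne_zero (α := F) (by
    have := congrFun h 0; simpa [hv0] using this)
  have hli1 : LinearIndependent F ![φ (tr v0)] := linearIndependent_unique_iff.2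
    (fun h => hv0ne ((injective_iff_map_eq_zero tr).1
      (LinearMap.funLeft_injective_of_surjective F F e e.surjective) _
      ((injective_iff_map_eq_zero φ).1 hinj _ h)))
  have hli2 : LinearIndependent F ![a] := linearIndependent_unique_iff.2 (fun h => ha0 h)
  obtain ⟨A, hAe, hAf, hA⟩ := exists_gu_perp P hli1 hli2 (fun i => by fin_cases i; exact hφ _)
    (fun i => by fin_cases i; exact ha)
    (fun i j => by fin_cases i; fin_cases j; simp [hform, htr, hv00, haa])
  have hAv : A.1.1 *ᵥ φ (tr v0) = a := hA 0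
  let f : F × {r : Fin m → F // C.form r r = c} → ↥(slice P a 0 c) := fun p =>
    ⟨A.1.1 *ᵥ φ (tr (Fin.cons p.1 (Fin.cons (p.1 * z) p.2.1))),
      ⟨by rw [← hAe, C.mem_gu_iff.1 A.2]; exact (hφ _).1, by rw [← hAf, C.mem_gu_iff.1 A.2]; exact (hφ _).2⟩,
      by
        rw [← hAv, C.mem_gu_iff.1 A.2, hform, htr, hv0, form_cons, form_cons, C.form_zero_right, map_one]
        linear_combination p.1 * hz,
      by
        rw [C.mem_gu_iff.1 A.2, hform, htr, form_cons, form_cons, p.2.2, map_mul]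
        linear_combination (p.1 * C.bar p.1) * hz⟩
  have hf : Function.Injective f := fun p p' h => by
    have h1 := Matrix.mulVec_injective_iff_isUnit.2 A.1.isUnit (congrArg Subtype.val h)
    have h2 := LinearMap.funLeft_injective_of_surjective F F e e.surjective (hinj h1)
    have h3 := congrArg Fin.tail h2
    rw [Fin.tail_cons, Fin.tail_cons] at h3
    have hr : p.2.1 = p'.2.1 := by
      have := congrArg Fin.tail h3; rwa [Fin.tail_cons, Fin.tail_cons] at this
    have h4 : p.1 = p'.1 := by have := congrFun h2 0; rwa [Fin.cons_zero, Fin.cons_zero] at this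
    exact Prod.ext h4 (Subtype.ext hr)
  have h1 := Nat.card_le_card_of_injective f hf
  rw [Nat.card_coe_set_eq, Nat.card_prod, Nat.card_eq_fintype_card (α := F), hF] at h1
  rw [show n - 4 = m by omega, ← hcount_scale C m hc hc0]
  exact h1

/-- Transitivity on non-degenerate pairs of an isotropic and another vector. -/
theorem exists_su_pair (hn : 5 ≤ n) {a b a' b' : V} (hp : a ∈ P.perp) (hpb : b ∈ P.perp)
    (hp' : a' ∈ P.perp) (hpb' : b' ∈ P.perp) (haa : C.form a a = 0) (haa' : C.form a' a' = 0)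
    (hbb : C.form b b = C.form b' b') (hba : C.form b a = C.form b' a') (hne : C.form b a ≠ 0) :
    ∃ g : ↥(Cfsg.SU n F q), P.Diag g 1 ∧ g.1.1 *ᵥ a = a' ∧ g.1.1 *ᵥ b = b' := by
  classical
  have hli : ∀ a b : V, C.form a a = 0 → C.form b a ≠ 0 → LinearIndependent F ![a, b] := by
    intro a b haa hne
    rw [linearIndependent_fin2]
    simp only [Matrix.cons_val_one, Matrix.cons_val_zero]
    refine ⟨fun h => hne (by rw [h, C.form_zero_left]), fun c hc => hne ?_⟩
    rcases eq_or_ne c 0 with rfl | hc0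
    · rw [zero_smul] at hc; rw [← hc, C.form_zero_right]
    · rw [show b = c⁻¹ • a by rw [← hc, smul_smul, inv_mul_cancel₀ hc0, one_smul], C.form_smul_left, haa,
        mul_zero]
  have hne' : C.form b' a' ≠ 0 := by rwa [← hba]
  have hab : C.form a' b' = C.bar (C.form b' a') := (C.bar_form b' a').symm
  obtain ⟨A, hAe, hAf, hAt⟩ := exists_gu_perp P (hli a b haa hne) (hli a' b' haa' hne')
    (fun i => by fin_cases i <;> [exact hp; exact hpb]) (fun i => by fin_cases i <;> [exact hp'; exact hpb'])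
    (fun i j => by
      fin_cases i <;> fin_cases j
      · exact haa.trans haa'.symm
      · show C.form a b = C.form a' b'
        rw [← C.bar_form, hba, C.bar_form]
      · exact hba
      · exact hbb)
  -- an anisotropic vector orthogonal to the images
  obtain ⟨v, hv0, hvp, hva, hvb⟩ : ∃ v : V, v ≠ 0 ∧ v ∈ P.perp ∧ C.form v a' = 0 ∧ C.form v b' = 0 := by
    let L : V →ₗ[F] (Fin 4 → F) :=
      { toFun := fun x i => C.form x (![P.e, P.f, a', b'] i)
        map_add' := fun x y => funext fun i => C.form_add_left x y _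
        map_smul' := fun c x => funext fun i => C.form_smul_left c x _ }
    have hlt : Module.finrank F (Fin 4 → F) < Module.finrank F V := by simp; omega
    obtain ⟨v, hv, hv0⟩ :=
      Submodule.exists_mem_ne_zero_of_ne_bot (LinearMap.ker_ne_bot_of_finrank_lt (f := L) hlt)
    have h := LinearMap.mem_ker.1 hv
    exact ⟨v, hv0, ⟨congrFun h 0, congrFun h 1⟩, congrFun h 2, congrFun h 3⟩
  obtain ⟨w, hwp, hww, hwa, hwb⟩ : ∃ w ∈ P.perp, C.form w w ≠ 0 ∧ C.form w a' = 0 ∧ C.form w b' = 0 := by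
    by_contra hcon
    simp only [not_exists, not_and] at hcon
    obtain ⟨u, hu, huv⟩ := perp_sep P hvp hv0
    set y := C.form u a' / C.form b' a' with hy
    set x := (C.form u b' - y * C.form b' b') / C.bar (C.form b' a') with hx
    have hbne : C.bar (C.form b' a') ≠ 0 := by simpa using hne'
    set u' := u - x • a' - y • b' with hu'
    have hu'p : u' ∈ P.perp :=
      P.perp.sub_mem (P.perp.sub_mem hu (P.perp.smul_mem _ hp')) (P.perp.smul_mem _ hpb')
    have hu'a : C.form u' a' = 0 := by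
      rw [hu', C.form_sub_left, C.form_sub_left, C.form_smul_left, C.form_smul_left, haa', hy,
        div_mul_cancel₀ _ hne']
      ring
    have hu'b : C.form u' b' = 0 := by
      rw [hu', C.form_sub_left, C.form_sub_left, C.form_smul_left, C.form_smul_left, hab, hx,
        div_mul_cancel₀ _ hbne]
      ring
    have hu'v : C.form u' v = 1 := by
      rw [hu', C.form_sub_left, C.form_sub_left, C.form_smul_left, C.form_smul_left, huv,
        C.form_swap_zero hva, C.form_swap_zero hvb]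
      ring
    obtain ⟨c, hc⟩ := C.exists_trace (c := (1 : F)) (map_one _)
    have hvv : C.form v v = 0 := by
      by_contra h; exact hcon v hvp h hva hvb
    have hu'u : C.form u' u' = 0 := by
      by_contra h; exact hcon u' hu'p h hu'a hu'b
    refine hcon (v + c • u') (P.perp.add_mem hvp (P.perp.smul_mem _ hu'p)) ?_
      (by rw [C.form_add_left, C.form_smul_left, hva, hu'a, mul_zero, add_zero])
      (by rw [C.form_add_left, C.form_smul_left, hvb, hu'b, mul_zero, add_zero])
    have hvu' : C.form v u' = 1 := by rw [← C.bar_form, hu'v, map_one]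
    simp only [C.form_add_left, C.form_add_right, C.form_smul_left, C.form_smul_right, hvv, hu'u, hu'v, hvu']
    intro h
    exact one_ne_zero (α := F) (by linear_combination h - hc)
  obtain ⟨g, hg⟩ := exists_su_of_gu A hww
  refine ⟨g, ⟨?_, ?_⟩, ?_, ?_⟩
  · rw [hg _ (by rw [hAe]; exact C.form_swap_zero hwp.1), hAe, one_smul]
  · rw [hg _ (by rw [hAf]; exact C.form_swap_zero hwp.2), hAf, map_one, inv_one, one_smul]
  · have h := hAt 0
    simp only [Matrix.cons_val_zero] at h
    rw [hg _ (by rw [h]; exact C.form_swap_zero hwa), h]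
  · have h := hAt 1
    simp only [Matrix.cons_val_one, Matrix.cons_val_zero] at h
    rw [hg _ (by rw [h]; exact C.form_swap_zero hwb), h]

/-- Transitivity, up to scaling the first vector, on orthogonal pairs with an isotropic first vector. -/
theorem exists_su_scaled {t t' : Fin 2 → V} (ht : LinearIndependent F t) (ht' : LinearIndependent F t')
    (hp : ∀ i, t i ∈ P.perp) (hp' : ∀ i, t' i ∈ P.perp)
    (hg : ∀ i j, C.form (t i) (t j) = C.form (t' i) (t' j)) (h00 : C.form (t' 0) (t' 0) = 0)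
    (h10 : C.form (t' 1) (t' 0) = 0) :
    ∃ (g : ↥(Cfsg.SU n F q)) (l : F), P.Diag g 1 ∧ l ≠ 0 ∧ g.1.1 *ᵥ t 0 = l • t' 0 ∧
      g.1.1 *ᵥ t 1 = t' 1 := by
  obtain ⟨A, hAe, hAf, hAt⟩ := exists_gu_perp P ht ht' hp hp' hg
  obtain ⟨x, hx⟩ := exists_forms (C := C) (pair_indep P ht' hp') (Pi.single (Sum.inl 0) 1)
  have hx0 : C.form (t' 0) x = 1 := by
    rw [← C.bar_form, show C.form x (t' 0) = 1 by simpa using hx (.inl 0), map_one]
  obtain ⟨κ, hκ1, hκ2⟩ := C.exists_partner h00 hx0
  let R : UPair C n := ⟨t' 0, x + κ • t' 0, h00, hκ1, hκ2⟩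
  have hxe : C.form x P.e = 0 := by simpa using hx (.inr 0)
  have hxf : C.form x P.f = 0 := by simpa using hx (.inr 1)
  have hx1 : C.form x (t' 1) = 0 := by simpa using hx (.inl 1)
  set d := A.1.1.det with hd
  have hdd : d * C.bar d = 1 := C.mem_unitOne.1 (C.detHom A).2
  obtain ⟨l, hl0, hl⟩ : ∃ l : F, l ≠ 0 ∧ l / C.bar l = d⁻¹ := by
    by_cases hd1 : d = -1
    · obtain ⟨δ, hδ0, hδ⟩ := C.exists_trace_zero
      exact ⟨δ, hδ0, by rw [bar_zset (C := C) hδ, div_neg, div_self hδ0, hd1, inv_neg, inv_one]⟩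
    · have hne : 1 + d⁻¹ ≠ 0 := fun h => hd1 (by
        rw [← inv_inv d, show d⁻¹ = -1 by linear_combination h, inv_neg, inv_one])
      refine ⟨1 + d⁻¹, hne, ?_⟩
      have hb : C.bar d = d⁻¹ := eq_inv_of_mul_eq_one_right hdd
      rw [map_add, map_one, map_inv₀, hb, inv_inv, div_eq_iff (fun h => hd1 (by linear_combination h))]
      rw [mul_add, mul_one, inv_mul_cancel₀ (left_ne_zero_of_mul_eq_one hdd)]
      ring
  have hdet : (R.torus l hl0).1.1.det = d⁻¹ := by
    show (C.rmap R.e R.f (l - 1) * C.rmap R.f R.e ((C.bar l)⁻¹ - 1)).det = _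
    rw [Matrix.det_mul, C.det_rmap, C.det_rmap, R.ef, R.fe, ← hl, div_eq_mul_inv]
    ring
  let g : ↥(Cfsg.SU n F q) := C.mkSU ((R.torus l hl0).1.1 * A.1.1)
    (by rw [Matrix.det_mul, hdet, ← hd, inv_mul_cancel₀ (left_ne_zero_of_mul_eq_one hdd)])
    (fun a b => by
      rw [← Matrix.mulVec_mulVec, ← Matrix.mulVec_mulVec, C.mem_gu_iff.1 (R.torus l hl0).2,
        C.mem_gu_iff.1 A.2])
  have hgv : ∀ y, g.1.1 *ᵥ y = (R.torus l hl0).1.1 *ᵥ (A.1.1 *ᵥ y) := fun y => by
    show ((R.torus l hl0).1.1 * A.1.1) *ᵥ y = _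
    rw [Matrix.mulVec_mulVec]
  have hfix : ∀ y, C.form y (t' 0) = 0 → C.form y x = 0 → (R.torus l hl0).1.1 *ᵥ y = y := by
    intro y h1 h2
    rw [R.torus_mulVec]
    simp [R, C.form_add_right, C.form_smul_right, h1, h2]
  refine ⟨g, l, ⟨?_, ?_⟩, hl0, ?_, ?_⟩
  · rw [hgv, hAe, hfix _ (C.form_swap_zero (hp' 0).1) (C.form_swap_zero hxe), one_smul]
  · rw [hgv, hAf, hfix _ (C.form_swap_zero (hp' 0).2) (C.form_swap_zero hxf), map_one, inv_one, one_smul]
  · rw [hgv, hAt, R.torus_mulVec, show C.form (t' 0) R.f = 1 from R.ef,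
      show C.form (t' 0) R.e = 0 from R.ee]
    show t' 0 + ((l - 1) * 1) • t' 0 + _ • R.f = _
    rw [mul_zero, zero_smul, add_zero, mul_one, sub_smul, one_smul, add_sub_cancel]
  · rw [hgv, hAt, hfix _ h10 (C.form_swap_zero hx1)]

end CfsgLib.PGroup.UnitAll
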