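import Cfsg.Agent.Lib.PGroup.UnitAll.Fixed

/-!
In a small transitive action with moved points every fixed point is fixed by the Eichler group.
-/

set_option autoImplicit false
set_option linter.unusedSectionVars false

namespace CfsgLib.PGroup.UnitAll

open Matrix Module CfsgLib.SU CfsgLib.Classical CfsgLib.Classical.HermIsoCount CfsgLib.PGroup.UnitIndex

variable {F : Type*} [Field F] [Fintype F] {q : ℕ} {C : UCtx F q} {n : ℕ}

local notation "V" => (Fin n → F)

variable {X : Type*} [MulAction ↥(Cfsg.SU n F q) X] [Finite X]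

/-- A transvection at the vector moves the point. -/
def Moves (z : V) (x : X) : Prop :=
  ∃ (hz : C.form z z = 0) (s : F) (hs : s + C.bar s = 0), C.tv z hz s hs • x ≠ x

theorem moves_iff (P : UPair C n) (x : X) : Moves (C := C) P.e x ↔ Moved P x := by
  constructor
  · rintro ⟨_, s, hs, h⟩
    exact ⟨s, hs, by rwa [qel_tv P (show s ∈ zset C from hs)]⟩
  · rintro ⟨t, ht, h⟩
    rw [qel_tv P ht] at h
    exact ⟨P.ee, t, ht, h⟩

theorem moves_map {z : V} {x : X} (h : Moves (C := C) z x) (g : ↥(Cfsg.SU n F q)) :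
    Moves (C := C) (g.1.1 *ᵥ z) (g • x) := by
  obtain ⟨hz, s, hs, h⟩ := h
  refine ⟨by rw [C.form_su, hz], s, hs, fun h' => h ?_⟩
  rw [← C.tv_conj g z hz s hs, mul_smul, inv_smul_smul, mul_smul] at h'
  exact smul_left_cancel g h'

theorem coprime_dvd_of_eq {q x J I k : ℕ} (hk : 1 ≤ k) (hI : I = (q ^ 2 - 1) * J) (hqI : q ∣ I + 1)
    (hx : x = q ^ (2 * k + 1) + q ^ 2 * J) (hdvd : x ∣ (q ^ 2 - 1) * q ^ (2 * k + 1)) :
    q ^ (2 * k - 1) + J ∣ q ^ 2 - 1 := by
  have hJ : Nat.Coprime J q := Nat.coprime_of_dvd fun p hp hpJ hpq => by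
    have h1 : p ∣ I + 1 := hpq.trans hqI
    have h2 : p ∣ I := hI ▸ dvd_mul_of_dvd_right hpJ _
    exact hp.one_lt.ne' (Nat.dvd_one.1 ((Nat.dvd_add_right h2).1 h1))
  have hY : Nat.Coprime (q ^ (2 * k - 1) + J) q := Nat.coprime_of_dvd fun p hp hpY hpq => by
    have h2 : p ∣ q ^ (2 * k - 1) := hpq.trans (dvd_pow_self q (by omega))
    exact (Nat.Prime.not_dvd_one hp) (hJ ▸ Nat.dvd_gcd ((Nat.dvd_add_right h2).1 hpY) hpq)
  refine (hY.pow_right (2 * k + 1)).dvd_of_dvd_mul_right (dvd_trans ⟨q ^ 2, ?_⟩ hdvd)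
  rw [hx, add_mul, ← pow_add, show 2 * k - 1 + 2 = 2 * k + 1 by omega, mul_comm J]

variable (hF : Fintype.card F = q ^ 2) (hn : 5 ≤ n) (hs : Small C n (Nat.card X))
  [MulAction.IsPretransitive ↥(Cfsg.SU n F q) X] (hmv : ∀ P : UPair C n, ∃ y : X, Moved P y)
include hF hn hs hmv

theorem not_extreme : ¬ isoCount C n ≤ (q ^ 2 - 1) * Nat.card X + (q ^ 2 - 1) := by
  classical
  intro hle
  have hq := q_ge_two hF
  have hQ : 0 < q ^ 2 - 1 := by
    have : 2 ^ 2 ≤ q ^ 2 := Nat.pow_le_pow_left hq 2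
    omega
  have heq : isoCount C n = (q ^ 2 - 1) * (Nat.card X + 1) := by
    have h1 : (q ^ 2 - 1) ∣ isoCount C n := ⟨_, by rw [← card_upoint C hF (by omega : 3 ≤ n), mul_comm]⟩
    obtain ⟨N, hN⟩ := h1
    have h2 := hs.1
    rw [hN] at hle h2 ⊢
    have h3 := Nat.lt_of_mul_lt_mul_left h2
    rw [← Nat.mul_succ] at hle
    have h4 := Nat.le_of_mul_le_mul_left hle hQ
    rw [show N = Nat.card X + 1 by omega]
  -- count the pairs of a vector and a point moved there
  set Z := {z : V // z ≠ 0 ∧ C.form z z = 0}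
  haveI : Fintype Z := Fintype.ofFinite _
  haveI : Fintype X := Fintype.ofFinite _
  have hz : ∀ z : Z, Nat.card {x : X // Moves (C := C) z.1 x} = q ^ (2 * (n - 2) + 1) := by
    intro z
    obtain ⟨P, hP⟩ := uPair_exists C z.2.1 z.2.2
    obtain ⟨y, hy⟩ := hmv P
    rw [← moved_ncard P hF hn hs hy, ← Nat.card_coe_set_eq]
    exact Nat.card_congr (Equiv.subtypeEquivRight fun x => by rw [← hP]; exact moves_iff P x)
  have hx : ∀ x x' : X, Nat.card {z : Z // Moves (C := C) z.1 x'} = Nat.card {z : Z // Moves (C := C) z.1 x} := by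
    suffices h : ∀ x x' : X, Nat.card {z : Z // Moves (C := C) z.1 x} ≤ Nat.card {z : Z // Moves (C := C) z.1 x'} from
      fun x x' => le_antisymm (h _ _) (h _ _)
    intro x x'
    obtain ⟨g, rfl⟩ := MulAction.exists_smul_eq ↥(Cfsg.SU n F q) x x'
    refine Nat.card_le_card_of_injective (fun z => (⟨⟨g.1.1 *ᵥ z.1.1,
      su_mulVec_ne_zero g z.1.2.1, by rw [C.form_su]; exact z.1.2.2⟩, moves_map z.2 g⟩ :
        {z : Z // Moves (C := C) z.1 (g • x)})) fun a b h => ?_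
    have h1 : g.1.1 *ᵥ a.1.1 = g.1.1 *ᵥ b.1.1 := congrArg (fun c => c.1.1) h
    refine Subtype.ext (Subtype.ext ?_)
    rw [← su_inv_mulVec g a.1.1, h1, su_inv_mulVec]
  obtain ⟨P⟩ := C.exists_pair (n := n) (by omega)
  obtain ⟨x₀, -⟩ := hmv P
  set m := Nat.card {z : Z // Moves (C := C) z.1 x₀}
  have hcount : isoCount C n * q ^ (2 * (n - 2) + 1) = Nat.card X * m := by
    have h1 := Nat.card_congr
      ((Equiv.subtypeProdEquivSigmaSubtype fun (z : Z) (x : X) => Moves (C := C) z.1 x).symm.trans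
        ((Equiv.subtypeEquiv (Equiv.prodComm Z X) fun p => Iff.rfl).trans
          (Equiv.subtypeProdEquivSigmaSubtype fun (x : X) (z : Z) => Moves (C := C) z.1 x)))
    rw [Nat.card_sigma, Nat.card_sigma, Finset.sum_congr rfl (fun z _ => hz z),
      Finset.sum_congr rfl (fun x _ => hx x₀ x), Finset.sum_const, Finset.sum_const, smul_eq_mul, smul_eq_mul,
      Finset.card_univ, Finset.card_univ] at h1
    rw [isoCount, Nat.card_eq_fintype_card (α := Z), Nat.card_eq_fintype_card (α := X)]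
    exact h1
  have hdvd : Nat.card X ∣ (q ^ 2 - 1) * q ^ (2 * (n - 2) + 1) := by
    rw [heq, show (q ^ 2 - 1) * (Nat.card X + 1) * q ^ (2 * (n - 2) + 1) =
      (q ^ 2 - 1) * q ^ (2 * (n - 2) + 1) + Nat.card X * ((q ^ 2 - 1) * q ^ (2 * (n - 2) + 1)) by ring] at hcount
    exact (Nat.dvd_add_left (Dvd.intro _ rfl)).1 ⟨m, hcount⟩
  obtain ⟨k, hk3, rfl⟩ : ∃ k, 3 ≤ k ∧ n = k + 2 := ⟨n - 2, by omega, by omega⟩
  rw [Nat.add_sub_cancel] at hdvd
  set J := Nat.card (UPoint C k)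
  have hI : isoCount C k = (q ^ 2 - 1) * J := by rw [← card_upoint C hF hk3, mul_comm]
  have hqI : q ∣ isoCount C k + 1 := by
    have h := isoCount_int (C := C) hF (show 1 ≤ k by omega)
    refine Int.natCast_dvd_natCast.1
      ⟨(q : ℤ) ^ (2 * k - 2) + (-1) ^ k * ((q : ℤ) ^ (k - 1) - (q : ℤ) ^ (k - 2)), ?_⟩
    push_cast
    rw [h]
    obtain ⟨j, rfl⟩ : ∃ j, k = j + 2 := ⟨k - 2, by omega⟩
    rw [show 2 * (j + 2) - 1 = 2 * j + 2 + 1 by omega, show 2 * (j + 2) - 2 = 2 * j + 2 by omega,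
      show j + 2 - 1 = j + 1 by omega, Nat.add_sub_cancel]
    ring
  have hxv : Nat.card X = q ^ (2 * k + 1) + q ^ 2 * J := by
    rw [isoCount_add_two hF (show 1 ≤ k by omega), hI] at heq
    refine Nat.eq_of_mul_eq_mul_left hQ ?_
    linarith [heq, mul_left_comm (q ^ 2) (q ^ 2 - 1) J]
  have h3 := Nat.le_of_dvd hQ (coprime_dvd_of_eq (show 1 ≤ k by omega) hI hqI hxv hdvd)
  have h4 : q ^ 2 ≤ q ^ (2 * k - 1) := Nat.pow_le_pow_right (by omega) (by omega)
  omega

/-- A point fixed by the transvections at a point is fixed by the Eichler group there. -/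
theorem fixed_full (P : UPair C n) {x : X} (hx : ¬ Moved P x) : Full P x := by
  by_contra hxf
  obtain ⟨y, hy⟩ := hmv P
  exact not_extreme hF hn hs hmv (fixed_extreme P hF hn hs hy hx hxf)

end CfsgLib.PGroup.UnitAll
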