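import Cfsg.Agent.Lib.PGroup.UnitAll.Main

/-!
The minimal index of a proper subgroup of projective special unitary groups in dimension at least five.
-/

set_option autoImplicit false
set_option linter.unusedSectionVars false

namespace CfsgLib.PGroup.UnitAll

open scoped Matrix
open Matrix CfsgLib.SU CfsgLib.Classical CfsgLib.Classical.HermIsoCount CfsgLib.PGroup.UnitIndex

variable {F : Type*} [Field F] [Fintype F] {q : ℕ} (C : UCtx F q) {n : ℕ}

include C in
/-- A subgroup of small index is the whole group. -/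
theorem psu_eq_top (hF : Fintype.card F = q ^ 2) (hn : 5 ≤ n) (H : Subgroup (Cfsg.PSU n F q))
    (hs : Small C n H.index) : H = ⊤ := by
  classical
  haveI : Finite (Cfsg.PSU n F q) := Quotient.finite _
  letI : MulAction ↥(Cfsg.SU n F q) (Cfsg.PSU n F q ⧸ H) := MulAction.compHom _ pr
  haveI : Finite (Cfsg.PSU n F q ⧸ H) := Quotient.finite _
  haveI : MulAction.IsPretransitive ↥(Cfsg.SU n F q) (Cfsg.PSU n F q ⧸ H) := ⟨fun a b => by
    obtain ⟨g, hg⟩ := MulAction.exists_smul_eq (Cfsg.PSU n F q) a b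
    obtain ⟨g', rfl⟩ := QuotientGroup.mk'_surjective _ g
    exact ⟨g', hg⟩⟩
  refine eq_top_iff.2 fun g _ => ?_
  obtain ⟨a, rfl⟩ := QuotientGroup.mk'_surjective _ g
  have h1 : (QuotientGroup.mk (pr a * 1) : Cfsg.PSU n F q ⧸ H) = QuotientGroup.mk 1 :=
    all_fix (C := C) hF hn hs (QuotientGroup.mk 1) a
  rwa [QuotientGroup.eq, mul_one, mul_one, inv_mem_iff] at h1

theorem isoCount_odd (hF : Fintype.card F = q ^ 2) (hn : 1 ≤ n) (hodd : Odd n) :
    isoCount C n = (q ^ n + 1) * (q ^ (n - 1) - 1) := by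
  have h1 : 1 ≤ q ^ (n - 1) := Nat.one_le_pow _ _ (Nat.pos_of_ne_zero C.q_ne_zero)
  zify [h1]
  rw [isoCount_int hF hn, hodd.neg_one_pow, show 2 * n - 1 = n + (n - 1) by omega, pow_add]
  ring

include C in
/-- The minimal index in odd dimension. -/
theorem psu_odd_index (hF : Fintype.card F = q ^ 2) (hn : 5 ≤ n) (hodd : Odd n) :
    (∀ H : Subgroup (Cfsg.PSU n F q), H ≠ ⊤ → (q ^ n + 1) * (q ^ (n - 1) - 1) / (q ^ 2 - 1) ≤ H.index) ∧
      ∃ H : Subgroup (Cfsg.PSU n F q), H.index = (q ^ n + 1) * (q ^ (n - 1) - 1) / (q ^ 2 - 1) := by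
  classical
  haveI : Finite (Cfsg.PSU n F q) := Quotient.finite _
  haveI : Finite (UPoint C n) := Subtype.finite
  have hq1 : 0 < q ^ 2 - 1 := by
    have : 2 ^ 2 ≤ q ^ 2 := Nat.pow_le_pow_left (q_ge_two hF) 2
    omega
  have hval : (q ^ n + 1) * (q ^ (n - 1) - 1) / (q ^ 2 - 1) = Nat.card (UPoint C n) := by
    rw [← isoCount_odd C hF (by omega) hodd, ← card_upoint C hF (by omega), Nat.mul_div_cancel _ hq1]
  rw [hval]
  refine ⟨fun H hH => ?_, ?_⟩
  · by_contra hlt
    rw [not_le] at hlt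
    have h1 : (q ^ 2 - 1) * H.index < isoCount C n := by
      rw [← card_upoint C hF (by omega), mul_comm (q ^ 2 - 1)]
      exact Nat.mul_lt_mul_of_pos_right hlt hq1
    refine hH (psu_eq_top C hF hn H ⟨h1, h1.trans_le ?_⟩)
    obtain ⟨k, rfl⟩ : ∃ k, n = k + 2 := ⟨n - 2, by omega⟩
    have hk : Odd k := by obtain ⟨a, ha⟩ := hodd; exact ⟨a - 1, by omega⟩
    have h2 : 1 ≤ q ^ 2 := Nat.one_le_pow _ _ (Nat.pos_of_ne_zero C.q_ne_zero)
    rw [Nat.add_sub_cancel]
    zify [h2]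
    rw [isoCount_int hF (by omega), hcount_int hF (show 1 ≤ k by omega), hk.neg_one_pow, hodd.neg_one_pow,
      show 2 * (k + 2) - 1 = (2 * k - 1) + 4 by omega, show 2 * k + 1 = (2 * k - 1) + 2 by omega,
      show k + 2 = (k - 1) + 3 by omega, show k - 1 + 3 - 1 = (k - 1) + 2 by omega]
    have h3 : (0 : ℤ) ≤ (q : ℤ) ^ (k - 1) * (q : ℤ) ^ 2 * q := by positivity
    simp only [pow_add]
    nlinarith
  · obtain ⟨P⟩ := C.exists_pair (n := n) (by omega)
    haveI : MulAction.IsPretransitive (Cfsg.PSU n F q) (UPoint C n) :=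
      (uPoint_preprimitive C (by omega)).toIsPretransitive
    exact ⟨MulAction.stabilizer (Cfsg.PSU n F q) (upt C P.e P.ee P.e_ne_zero),
      MulAction.index_stabilizer_of_transitive _ _⟩

/-- The special unitary group is transitive on vectors of norm one. -/
theorem exists_su_norm_one (hn : 2 ≤ n) {v v' : Fin n → F} (hv : C.form v v = 1) (hv' : C.form v' v' = 1) :
    ∃ g : ↥(Cfsg.SU n F q), g.1.1 *ᵥ v = v' := by
  classical
  have hs : ∀ i j : Fin n, C.form (Pi.single i 1) (Pi.single j 1) = if i = j then 1 else 0 := fun i j => by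
    simp [UCtx.form, Pi.single_apply, apply_ite C.bar, eq_comm]
  have hli : ∀ u : Fin n → F, C.form u u = 1 → LinearIndependent F ![u] := fun u hu =>
    linearIndependent_unique_iff.2 fun h => one_ne_zero (α := F) (by
      rw [← hu, show u = 0 from h, C.form_zero_left])
  set e₀ : Fin n → F := Pi.single ⟨0, by omega⟩ 1
  set e₁ : Fin n → F := Pi.single ⟨1, by omega⟩ 1
  have h0 : C.form e₀ e₀ = 1 := by rw [hs, if_pos rfl]
  obtain ⟨A, hA⟩ := HermFrames.exists_move_tuple C (hli v hv) (hli v' hv')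
    (fun i j => by fin_cases i; fin_cases j; exact hv.trans hv'.symm)
  obtain ⟨B, hB⟩ := HermFrames.exists_move_tuple C (hli e₀ h0) (hli v' hv')
    (fun i j => by fin_cases i; fin_cases j; exact h0.trans hv'.symm)
  have hAv : A.1.1 *ᵥ v = v' := hA 0
  have hB0 : B.1.1 *ᵥ e₀ = v' := hB 0
  obtain ⟨g, hg⟩ := exists_su_of_gu A (v := B.1.1 *ᵥ e₁)
    (by rw [C.mem_gu_iff.1 B.2, hs, if_pos rfl]; exact one_ne_zero)
  refine ⟨g, ?_⟩
  rw [hg v (by rw [hAv, ← hB0, C.mem_gu_iff.1 B.2, hs, if_neg (by simp [Fin.ext_iff])]), hAv]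

include C in
/-- The number of non-isotropic points is attained. -/
theorem exists_psu_two_index (hF : Fintype.card F = 2 ^ 2) (hq : q = 2) (hn : 3 ≤ n) :
    ∃ H : Subgroup (Cfsg.PSU n F q), H.index * 3 = hcount C n 1 := by
  classical
  subst hq
  haveI : Finite (Cfsg.PSU n F 2) := Quotient.finite _
  let Y := {v : Fin n → F // C.form v v = 1}
  letI : MulAction ↥(Cfsg.SU n F 2) Y :=
    { smul := fun g v => ⟨g.1.1 *ᵥ v.1, by rw [C.form_su, v.2]⟩
      one_smul := fun v => Subtype.ext (su_one_mulVec v.1)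
      mul_smul := fun g h v => Subtype.ext (suMat_mulVec_mul g h v.1) }
  haveI : MulAction.IsPretransitive ↥(Cfsg.SU n F 2) Y := ⟨fun a b => by
    obtain ⟨g, hg⟩ := exists_su_norm_one C (by omega) a.2 b.2
    exact ⟨g, Subtype.ext hg⟩⟩
  let v₀ : Y := ⟨Pi.single ⟨0, by omega⟩ 1, by simp [UCtx.form, Pi.single_apply]⟩
  have hv0 : v₀.1 ≠ 0 := fun h => one_ne_zero (α := F) (by rw [← v₀.2, h, C.form_zero_left])
  let L : Subgroup ↥(Cfsg.SU n F 2) :=
    { carrier := {g | ∃ c : F, g.1.1 *ᵥ v₀.1 = c • v₀.1}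
      one_mem' := ⟨1, by rw [su_one_mulVec, one_smul]⟩
      mul_mem' := by
        rintro g h ⟨c, hc⟩ ⟨d, hd⟩
        exact ⟨d * c, by rw [suMat_mulVec_mul, hd, Matrix.mulVec_smul, hc, smul_smul]⟩
      inv_mem' := by
        rintro g ⟨c, hc⟩
        refine ⟨c⁻¹, ?_⟩
        rcases eq_or_ne c 0 with rfl | hc0
        · rw [zero_smul] at hc; exact absurd hc (su_mulVec_ne_zero g hv0)
        · conv_rhs => rw [← su_inv_mulVec g v₀.1, hc, Matrix.mulVec_smul, smul_smul, inv_mul_cancel₀ hc0, one_smul] }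
  have hSL : MulAction.stabilizer ↥(Cfsg.SU n F 2) v₀ ≤ L := fun g hg =>
    ⟨1, by rw [one_smul]; exact congrArg Subtype.val hg⟩
  have hnorm : ∀ c : F, c ≠ 0 → c * C.bar c = 1 := fun c hc => by
    have := FiniteField.pow_card_sub_one_eq_one c hc
    rw [hF] at this
    rw [C.bar_eq, ← this]
    ring
  have hrel : (MulAction.stabilizer ↥(Cfsg.SU n F 2) v₀).relIndex L = 3 := by
    rw [Subgroup.relIndex, show (MulAction.stabilizer ↥(Cfsg.SU n F 2) v₀).subgroupOf L =
      MulAction.stabilizer L v₀ from rfl, MulAction.index_stabilizer, ← Nat.card_coe_set_eq]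
    have h : Nat.card {c : F // c ≠ 0} = 3 := by
      rw [← Nat.card_congr unitsEquivNeZero, Nat.card_units, Nat.card_eq_fintype_card, hF]
      norm_num
    rw [← h]
    refine (Nat.card_congr (Equiv.ofBijective (fun c : {c : F // c ≠ 0} =>
      (⟨⟨c.1 • v₀.1, by rw [C.form_smul_left, C.form_smul_right, v₀.2, mul_one, hnorm c.1 c.2]⟩, ?_⟩ :
        ↥(MulAction.orbit L v₀))) ⟨fun a b hab => ?_, ?_⟩)).symm
    · obtain ⟨g, hg⟩ := exists_su_norm_one C (by omega) (v' := c.1 • v₀.1) v₀.2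
        (by rw [C.form_smul_left, C.form_smul_right, v₀.2, mul_one, hnorm c.1 c.2])
      exact ⟨⟨g, c.1, hg⟩, Subtype.ext hg⟩
    · exact Subtype.ext (smul_left_injective F hv0 (congrArg (fun p => p.1.1) hab))
    · rintro ⟨_, ⟨g, ⟨c, hc⟩⟩, rfl⟩
      refine ⟨⟨c, fun h => ?_⟩, Subtype.ext (Subtype.ext hc.symm)⟩
      rw [h, zero_smul] at hc
      exact su_mulVec_ne_zero g hv0 hc
  have hL : L.index * 3 = hcount C n 1 := by
    have h1 := Subgroup.relIndex_mul_index hSL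
    rw [hrel, MulAction.index_stabilizer_of_transitive] at h1
    rw [mul_comm, h1]
    rfl
  refine ⟨L.map pr, ?_⟩
  rw [Subgroup.index_map_eq (H := L) (QuotientGroup.mk'_surjective _) ?_, hL]
  intro g hg
  obtain ⟨c, hc⟩ := (C.pr_eq_iff (show 3 ≤ n by omega) (A := 1) (B := g)).1
    ((MonoidHom.mem_ker.1 hg).symm ▸ map_one _)
  exact ⟨c, by rw [hc, Matrix.smul_mulVec, su_one_mulVec]⟩

include C in
/-- The minimal index in the dimensions divisible by six over four elements. -/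
theorem psu_two_index (hF : Fintype.card F = 2 ^ 2) (hq : q = 2) (hn : 5 ≤ n) (he : Even n) :
    (∀ H : Subgroup (Cfsg.PSU n F q), H ≠ ⊤ → 2 ^ (n - 1) * (2 ^ n - 1) / 3 ≤ H.index) ∧
      ∃ H : Subgroup (Cfsg.PSU n F q), H.index = 2 ^ (n - 1) * (2 ^ n - 1) / 3 := by
  subst hq
  have hc : hcount C n 1 = 2 ^ (n - 1) * (2 ^ n - 1) := by
    have h1 : 1 ≤ 2 ^ n := Nat.one_le_two_pow
    zify [h1]
    rw [hcount_int hF (by omega), he.neg_one_pow, show 2 * n - 1 = (n - 1) + n by omega, pow_add]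
    push_cast
    ring
  obtain ⟨H₀, hH₀⟩ := exists_psu_two_index C hF rfl (show 3 ≤ n by omega)
  have hval : 2 ^ (n - 1) * (2 ^ n - 1) / 3 = H₀.index := by
    rw [← hc, ← hH₀, Nat.mul_div_cancel _ (by norm_num)]
  rw [hval]
  refine ⟨fun H hH => ?_, H₀, rfl⟩
  by_contra hlt
  rw [not_le] at hlt
  have hz : ((H.index : ℤ) * 3) < 2 ^ (n - 1) * (2 ^ n - 1) := by
    have h1 : H.index * 3 < hcount C n 1 := by omega
    have h2 : (1 : ℕ) ≤ 2 ^ n := Nat.one_le_two_pow
    rw [hc] at h1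
    zify [h2] at h1
    exact h1
  have hp : (0 : ℤ) < 2 ^ (n - 1) := by positivity
  refine hH (psu_eq_top C hF hn H ⟨?_, ?_⟩)
  · zify
    rw [isoCount_int hF (by omega), he.neg_one_pow, show 2 * n - 1 = (n - 1) + n by omega, pow_add]
    obtain ⟨m, rfl⟩ : ∃ m, n = m + 1 := ⟨n - 1, by omega⟩
    simp only [Nat.add_sub_cancel, pow_succ] at hz hp ⊢
    push_cast
    nlinarith
  · obtain ⟨k, rfl⟩ : ∃ k, n = k + 2 := ⟨n - 2, by omega⟩
    have hk : Even k := by obtain ⟨a, ha⟩ := he; exact ⟨a - 1, by omega⟩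
    rw [Nat.add_sub_cancel]
    norm_num
    zify
    generalize H.index = idx at hz ⊢
    rw [hcount_int hF (show 1 ≤ k by omega), hk.neg_one_pow]
    rw [show k + 2 - 1 = (k - 1) + 2 by omega, show k + 2 = (k - 1) + 3 by omega] at hz
    rw [show 2 * k + 1 = (k - 1) + (k - 1) + 3 by omega, show 2 * k - 1 = (k - 1) + (k - 1) + 1 by omega]
    simp only [pow_add] at hz ⊢
    push_cast at hz ⊢
    nlinarith

end CfsgLib.PGroup.UnitAll
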