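import Cfsg.Agent.Lib.PGroup.UnitAll.Moved
import Cfsg.Agent.Lib.Classical.PSUSimple
import Cfsg.Agent.Lib.PGroup.UnitIndex.Final

/-!
In a small transitive action a point fixed by the transvections at a point is fixed by the whole
Eichler group there.
-/

set_option autoImplicit false
set_option linter.unusedSectionVars false

namespace CfsgLib.PGroup.UnitAll

open Matrix Module CfsgLib.SU CfsgLib.Classical CfsgLib.Classical.HermIsoCount CfsgLib.PGroup.UnitIndex

variable {F : Type*} [Field F] [Fintype F] {q : ℕ} {C : UCtx F q} {n : ℕ} (P : UPair C n)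

local notation "V" => (Fin n → F)

theorem q_mul_hcount_le (hF : Fintype.card F = q ^ 2) {k : ℕ} (hk : 3 ≤ k) :
    q * hcount C k 1 ≤ (q ^ 2 - 1) * isoCount C k := by
  have hq := q_ge_two hF
  have h2 := hcount_one_upper (C := C) hF (show 1 ≤ k by omega)
  have h3 : q + 1 ≤ q ^ 2 - 1 := by
    have : q + 2 ≤ q * q := by nlinarith
    rw [pow_two]; omega
  refine le_trans ?_ (Nat.mul_le_mul_right _ h3)
  refine le_of_add_le_add_right (a := (q + 1) * q ^ k) ?_
  refine le_trans ?_ ((Nat.mul_le_mul_left (q + 1) (isoCount_lower (C := C) hF (show 1 ≤ k by omega))).trans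
    (le_of_eq (mul_add _ _ _)))
  obtain ⟨m, rfl⟩ : ∃ m, k = m + 3 := ⟨k - 3, by omega⟩
  rw [show 2 * (m + 3) - 1 = 2 * m + 5 by omega] at h2 ⊢
  rw [show m + 3 - 1 = m + 2 by omega] at h2
  have h4 : 2 * q ^ (m + 4) ≤ q ^ (2 * m + 5) := by
    refine le_trans (Nat.mul_le_mul_right _ hq) ?_
    rw [← pow_succ']
    exact Nat.pow_le_pow_right (by omega) (by omega)
  have h5 : 2 * q ^ (m + 3) ≤ q ^ (m + 4) := by
    rw [pow_succ' q (m + 3)]
    exact Nat.mul_le_mul_right _ hq
  have h6 := Nat.mul_le_mul_left q h2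
  have h7 : q * q ^ (m + 2) = q ^ (m + 3) := (pow_succ' q (m + 2)).symm
  have h8 : q * q ^ (m + 3) = q ^ (m + 4) := (pow_succ' q (m + 3)).symm
  rw [mul_add, h7] at h6
  rw [add_mul, add_mul, one_mul, one_mul, h8]
  omega

theorem qk_le_isoCount (hF : Fintype.card F = q ^ 2) {k : ℕ} (hk : 4 ≤ k) :
    q ^ k ≤ q * isoCount C (k - 2) + q ^ 2 := by
  have hq := q_ge_two hF
  rcases eq_or_lt_of_le hk with rfl | hk5
  · have h := isoCount_even (C := C) hF (show 1 ≤ 2 by omega) ⟨1, rfl⟩
    norm_num at h ⊢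
    calc q ^ 4 = q * q ^ 3 := by ring
      _ ≤ q * isoCount C 2 := Nat.mul_le_mul_left _ h
      _ ≤ _ := Nat.le_add_right _ _
  · have h := Nat.mul_le_mul_left q (isoCount_lower (C := C) hF (show 1 ≤ k - 2 by omega))
    rw [mul_add, ← pow_succ', ← pow_succ', show 2 * (k - 2) - 1 + 1 = 2 * (k - 2) by omega,
      show k - 2 + 1 = k - 1 by omega] at h
    have h1 : 2 * q ^ k ≤ q ^ (2 * (k - 2)) := by
      refine le_trans (Nat.mul_le_mul_right _ hq) ?_
      rw [← pow_succ']
      exact Nat.pow_le_pow_right (by omega) (by omega)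
    have h2 : q ^ (k - 1) ≤ q ^ k := Nat.pow_le_pow_right (by omega) (by omega)
    omega

theorem annih_map {g : ↥(Cfsg.SU n F q)} (hg : P.Diag g 1) (U : AddSubgroup V) :
    (symP C n).annih P.perp.toAddSubgroup (U.map (addMap g)) =
      ((symP C n).annih P.perp.toAddSubgroup U).map (addMap g) := by
  refine le_antisymm ?_ ?_
  · rintro d ⟨hd, h⟩
    refine ⟨(g⁻¹).1.1 *ᵥ d, ⟨?_, fun v hv => ?_⟩, su_mulVec_inv g d⟩
    · have := (diag_inv P hg).mem (show d ∈ P.perp from hd)
      rwa [inv_one, map_one, one_smul] at this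
    · rw [← h _ (mem_img hv)]
      show chi F (C.form _ v + C.form v _) = chi F (C.form d _ + C.form _ d)
      congr 1
      rw [← C.form_su g ((g⁻¹).1.1 *ᵥ d) v, ← C.form_su g v ((g⁻¹).1.1 *ᵥ d), su_mulVec_inv]
  · rintro _ ⟨d, ⟨hd, h⟩, rfl⟩
    refine ⟨?_, ?_⟩
    · have := hg.mem (show d ∈ P.perp from hd)
      rwa [map_one, one_smul] at this
    · rintro _ ⟨v, hv, rfl⟩
      rw [← h v hv]
      show chi F (C.form (addMap g d) (addMap g v) + C.form (addMap g v) (addMap g d)) =
        chi F (C.form d v + C.form v d)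
      rw [addMap_apply, addMap_apply, C.form_su, C.form_su]

variable {X : Type*} [MulAction ↥(Cfsg.SU n F q) X] [Finite X]

/-- The point is fixed by the Eichler group of the pair. -/
def Full (x : X) : Prop := ∀ w t, Qok P w t → qel P w t • x = x

theorem wstab_map {g : ↥(Cfsg.SU n F q)} (hg : P.Diag g 1) (x : X) :
    wstab P (g • x) = (wstab P x).map (addMap g) := by
  refine le_antisymm ?_ ?_
  · intro v hv
    have h5 := wstab_levi_le P (diag_inv P hg) hv
    rw [inv_smul_smul, inv_one, map_one, one_smul] at h5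
    exact ⟨_, h5, su_mulVec_inv g v⟩
  · rintro _ ⟨w, hw, rfl⟩
    have h5 := wstab_levi_le P hg hw
    rwa [map_one, one_smul] at h5

theorem fixed_zfix {x : X} (hx : ¬ Moved P x) {t : F} (ht : t ∈ zset C) : qel P 0 t • x = x :=
  by_contra fun h => hx ⟨t, ht, h⟩

theorem exists_not_wstab {x : X} (hx : ¬ Moved P x) (hxf : ¬ Full P x) :
    ∃ w ∈ P.perp, w ∉ wstab P x := by
  by_contra hcon
  simp only [not_exists, not_and, not_not] at hcon
  refine hxf fun w t h => ?_
  obtain ⟨t', h', hfix⟩ := hcon w h.1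
  have h1 := qel_mul_zero P h' (qok_diff P h' h)
  rw [add_sub_cancel] at h1
  rw [← h1, mul_smul, fixed_zfix P hx (qok_diff P h' h), hfix]

variable (hF : Fintype.card F = q ^ 2) (hn : 5 ≤ n) (hs : Small C n (Nat.card X))
include hF hn hs

theorem moved_ncard {y : X} (hy : Moved P y) : {z : X | Moved P z}.ncard = q ^ (2 * (n - 2) + 1) := by
  classical
  rw [← card_eich P hF hn]
  obtain ⟨φ, hφ, hφy⟩ := exists_orbit_map P hF hn hs hy
  refine le_antisymm ?_ ?_
  · choose τ hτ using fun w : P.perp => qok_exists P w.2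
    let ψ : P.perp × zset C → X := fun p => qel P p.1.1 (τ p.1 + p.2.1) • y
    refine le_trans (Set.ncard_le_ncard (t := Set.range ψ) ?_ (Set.toFinite _)) ?_
    · intro z hz
      obtain ⟨w, t, h, rfl⟩ := moved_orbit P hF hn hs hy hz
      refine ⟨(⟨w, h.1⟩, ⟨t - τ ⟨w, h.1⟩, qok_diff P (hτ _) h⟩), ?_⟩
      show qel P w (τ ⟨w, h.1⟩ + (t - τ ⟨w, h.1⟩)) • y = _
      rw [add_sub_cancel]
    · rw [← Nat.card_coe_set_eq]
      exact Nat.card_le_card_of_surjective _ Set.rangeFactorization_surjective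
  · rw [← Nat.card_coe_set_eq]
    refine Nat.card_le_card_of_injective (fun p => (⟨φ p, ?_⟩ : {z : X | Moved P z}))
      fun p p' h => hφ (congrArg Subtype.val h)
    obtain ⟨w, t, h, hp⟩ := hφy p
    rw [hp]
    exact moved_qel P h hy

/-- The orbits of fixed points with different stabilisers do not meet. -/
theorem fixed_count {y : X} (hy : Moved P y) {x : X} (hx : ¬ Moved P x) :
    q ^ (2 * (n - 2) + 1) + (imgs P ((symP C n).annih P.perp.toAddSubgroup (wstab P x))).ncard *
      Nat.card ((symP C n).annih P.perp.toAddSubgroup (wstab P x)) ≤ Nat.card X := by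
  classical
  haveI : Finite (AddSubgroup V) :=
    Finite.of_injective (fun H : AddSubgroup V => (H : Set V)) SetLike.coe_injective
  set D := (symP C n).annih P.perp.toAddSubgroup (wstab P x)
  haveI : Fintype (imgs P D) := Fintype.ofFinite _
  choose gs hgs hgS using fun S : imgs P D => S.2
  choose τ hτ using fun w : P.perp => qok_exists P w.2
  let SW : imgs P D → AddSubgroup P.perp := fun S => (wstab P (gs S • x)).addSubgroupOf P.perp.toAddSubgroup
  have hfix : ∀ S, ¬ Moved P (gs S • x) := fun S h => hx (by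
    have := moved_levi P (diag_inv P (hgs S)) h
    rwa [inv_smul_smul] at this)
  let toX : (Σ S : imgs P D, P.perp ⧸ SW S) → X := fun p =>
    qel P (Quotient.out p.2).1 (τ (Quotient.out p.2)) • (gs p.1 • x)
  have hinj : Function.Injective toX := by
    rintro ⟨S, w⟩ ⟨S', w'⟩ h
    have h' : qel P (Quotient.out w).1 (τ (Quotient.out w)) • (gs S • x) =
      qel P (Quotient.out w').1 (τ (Quotient.out w')) • (gs S' • x) := h
    obtain rfl : S = S' := by
      refine Subtype.ext ?_
      have h1 : wstab P (gs S • x) = wstab P (gs S' • x) := by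
        rw [← wstab_qel P (hτ (Quotient.out w)) (gs S • x), h', wstab_qel P (hτ _)]
      rw [hgS S, hgS S', ← annih_map P (hgs S), ← annih_map P (hgs S'), ← wstab_map P (hgs S),
        ← wstab_map P (hgs S'), h1]
    refine congrArg (Sigma.mk S) ?_
    rw [← Quotient.out_eq w, ← Quotient.out_eq w']
    refine Quotient.sound (QuotientAddGroup.leftRel_apply.2 ?_)
    have h1 : qel P (Quotient.out w').1 (τ (Quotient.out w')) • (gs S • x) =
      qel P (Quotient.out w).1 (τ (Quotient.out w)) • (gs S • x) := h'.symm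
    rw [← inv_smul_eq_iff, ← mul_smul, qel_inv P (hτ _), qel_mul P (qok_neg P (hτ _)) (hτ _)] at h1
    exact ⟨_, qok_mul P (qok_neg P (hτ _)) (hτ _), h1⟩
  have hq : ∀ S, Nat.card D ≤ Nat.card (P.perp ⧸ SW S) := by
    intro S
    have hle : wstab P (gs S • x) ≤ P.perp.toAddSubgroup := fun w hw => wstab_le P hw
    have h1 := (symP C n).card_annih (symP_nd P.perp fun w hw hw0 => perp_sep P hw hw0) hle
    rw [show (symP C n).annih P.perp.toAddSubgroup (wstab P (gs S • x)) = D.map (addMap (gs S)) by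
      rw [wstab_map P (hgs S), annih_map P (hgs S)],
      ← Nat.card_congr (D.equivMapOfInjective _ (addMap_injective (gs S))).toEquiv,
      show Nat.card P.perp.toAddSubgroup = Nat.card P.perp from rfl,
      AddSubgroup.card_eq_card_quotient_mul_card_addSubgroup (SW S),
      show Nat.card (SW S) = Nat.card (wstab P (gs S • x)) from
        Nat.card_congr (AddSubgroup.addSubgroupOfEquivOfLe hle).toEquiv] at h1
    exact Nat.le_of_mul_le_mul_right h1 Nat.card_pos
  have hdisj : ∀ (p : {z : X | Moved P z}) (s : Σ S : imgs P D, P.perp ⧸ SW S), p.1 ≠ toX s := by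
    intro p s h
    refine hfix s.1 ?_
    have h2 := moved_qel P (qok_neg P (hτ (Quotient.out s.2))) p.2
    rwa [h, ← qel_inv P (hτ (Quotient.out s.2)), inv_smul_smul] at h2
  have hcard := Nat.card_le_card_of_injective (Sum.elim Subtype.val toX)
    (Function.Injective.sumElim Subtype.val_injective hinj hdisj)
  rw [Nat.card_sum, Nat.card_coe_set_eq, moved_ncard P hF hn hs hy, Nat.card_sigma] at hcard
  refine le_trans (Nat.add_le_add_left ?_ _) hcard
  rw [← Nat.card_coe_set_eq, Nat.card_eq_fintype_card]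
  exact le_of_eq_of_le (by rw [Finset.sum_const, smul_eq_mul, Finset.card_univ])
    (Finset.sum_le_sum fun S _ => hq S)

/-- A fixed point which is not fully fixed makes the action as large as possible. -/
theorem fixed_extreme {y : X} (hy : Moved P y) {x : X} (hx : ¬ Moved P x) (hxf : ¬ Full P x) :
    isoCount C n ≤ (q ^ 2 - 1) * Nat.card X + (q ^ 2 - 1) := by
  classical
  have h0 := fixed_count P hF hn hs hy hx
  set D := (symP C n).annih P.perp.toAddSubgroup (wstab P x) with hD
  obtain ⟨k, hk3, rfl⟩ : ∃ k, 3 ≤ k ∧ n = k + 2 := ⟨n - 2, by omega, by omega⟩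
  have hk2 : k + 2 - 2 = k := Nat.add_sub_cancel k 2
  rw [hk2] at h0
  have hq := q_ge_two hF
  have hDp : ∀ a ∈ D, a ∈ P.perp := fun a ha => ha.1
  obtain ⟨a₁, ha₁, ha₁0⟩ := (symP C _).exists_annih_ne (symP_nd P.perp fun w hw hw0 => perp_sep P hw hw0)
    (W := P.perp.toAddSubgroup) (S := wstab P x) (fun w hw => wstab_le P hw) (exists_not_wstab P hx hxf)
  change a₁ ∈ D at ha₁
  set K := (imgs P D).ncard
  set d := Nat.card D
  set Q := q ^ 2 - 1 with hQ
  have hQ1 : q ^ 2 = Q + 1 := by
    have : 1 ≤ q ^ 2 := Nat.one_le_pow _ _ (by omega)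
    omega
  have hs2 := hs.2
  rw [hk2, ← hQ] at hs2
  have hX := Nat.mul_le_mul_left Q h0
  rw [mul_add] at hX
  have hcon : q ^ 2 * hcount C k 1 ≤ Q * (K * d) → False := fun h => by omega
  have hqS : q * hcount C k 1 ≤ Q * isoCount C k := q_mul_hcount_le hF hk3
  by_cases hsmall : d ≤ q ^ 2
  · have h1 := cover_one P hn hDp ha₁ ha₁0
    have h2 : q ^ 2 * (sph P (C.form a₁ a₁) \ {0}).ncard ≤ Q * (K * d) := by
      refine (Nat.mul_le_mul_left _ h1).trans ?_
      calc q ^ 2 * (K * (d - 1)) = K * (q ^ 2 * (d - 1)) := by ring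
        _ ≤ K * (Q * d) := Nat.mul_le_mul_left _ (by
          rw [hQ1, add_mul, one_mul, Nat.mul_sub_one]
          have : Q ≤ Q * d := Nat.le_mul_of_pos_right _ Nat.card_pos
          omega)
        _ = _ := by ring
    rcases eq_or_ne (C.form a₁ a₁) 0 with h | h
    · rw [h, sph_iso P hF (by omega), hk2] at h2
      rw [isoCount_add_two hF (show 1 ≤ k by omega), ← hQ]
      omega
    · rw [sph_aniso P (C.form_self_fixed a₁) h, hk2] at h2
      exact (hcon h2).elim
  rw [not_le] at hsmall
  exfalso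
  obtain ⟨a, ha, ha0, haa⟩ := exists_isotropic_mem C hF D hsmall
  have hI : (sph P 0 \ {0}).ncard = isoCount C k := by rw [sph_iso P hF (by omega), hk2]
  by_cases hmix : ∃ b ∈ D, C.form b b ≠ 0
  · obtain ⟨b, hb, hbb⟩ := hmix
    have h1 := cover_two P hn hDp ha ha0 hb (fun h => hbb (by rw [h, C.form_zero_left]))
      (by rw [haa]; exact hbb.symm)
    rw [haa, hI, sph_aniso P (C.form_self_fixed b) hbb, hk2] at h1
    refine hcon (le_trans ?_ (Nat.mul_le_mul_left Q (h1.trans (Nat.mul_le_mul_left _ (Nat.sub_le _ _)))))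
    rw [hQ1, mul_add, add_mul, one_mul, add_comm]
    exact Nat.add_le_add_right (le_trans (Nat.le_mul_of_pos_left _ (by omega)) hqS) _
  simp only [not_exists, not_and, not_not] at hmix
  have hk4 : 4 ≤ k := by
    by_contra hk
    have := all_iso_three P hF (show k + 2 - 2 = 3 by omega) hDp hmix
    omega
  have hdk : d ≤ q ^ k := by
    have h := (symP C (k + 2)).sq_le (symP_nd P.perp fun w hw hw0 => perp_sep P hw hw0) (S := D)
      (fun w hw => hDp w hw) (fun u hu v hv => by
        have h1 := hmix _ (D.add_mem hu hv)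
        rw [C.form_add_left, C.form_add_right, C.form_add_right, hmix u hu, hmix v hv, zero_add, add_zero] at h1
        show chi F (C.form u v + C.form v u) = 1
        rw [h1, AddChar.map_zero_eq_one])
    rw [show Nat.card P.perp.toAddSubgroup = q ^ (2 * (k + 2 - 2)) from card_perp_eq P hF, hk2, two_mul,
      pow_add] at h
    exact Nat.mul_self_le_mul_self_iff.1 h
  -- in both cases the number of points is too large
  suffices h : q * isoCount C k ≤ K * d by
    refine hcon (le_trans ?_ (Nat.mul_le_mul_left Q h))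
    calc q ^ 2 * hcount C k 1 = q * (q * hcount C k 1) := by ring
      _ ≤ q * (Q * isoCount C k) := Nat.mul_le_mul_left _ hqS
      _ = _ := by ring
  by_cases hts : ∀ u ∈ D, ∀ v ∈ D, C.form u v = 0
  · obtain ⟨b, hb, hab⟩ := exists_indep hF hsmall ha0
    have h1 := cover_planes P hn hDp hF ha hb hab hts
    rw [isoPairs_ncard P (by omega), hF, hk2, show k + 2 - 4 = k - 2 by omega] at h1
    have h2 := qk_le_isoCount (C := C) hF hk4
    have hpos : 0 < q ^ k - q ^ 2 := Nat.sub_pos_of_lt (Nat.pow_lt_pow_right (by omega) (by omega))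
    refine Nat.le_of_mul_le_mul_right (c := q ^ k - q ^ 2) ?_ hpos
    calc q * isoCount C k * (q ^ k - q ^ 2) ≤ q * isoCount C k * (q * isoCount C (k - 2)) :=
          Nat.mul_le_mul_left _ (by omega)
      _ = isoCount C k * (q ^ 2 * isoCount C (k - 2)) := by ring
      _ ≤ _ := h1
      _ ≤ K * d * (q ^ k - q ^ 2) := by
          rw [mul_assoc]
          exact Nat.mul_le_mul_left _ (Nat.mul_le_mul_right _ (Nat.sub_le _ _))
  · simp only [not_forall] at hts
    obtain ⟨b, hb, c, hc, hbc⟩ := hts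
    have h1 := cover_iso_gram P hn hDp (by omega) hc (hmix c hc) hb (hmix b hb) hbc
      (T3 := q ^ (2 * k - 3)) (fun x hx => by
        have := slice_lower_iso P hF (by omega) hx.1.1 hx.2 hx.1.2 hbc (γ := (0 : F)) (map_zero _)
        rwa [hk2] at this)
    rw [hI] at h1
    refine Nat.le_of_mul_le_mul_right (c := q ^ k) ?_ (pow_pos (by omega) _)
    calc q * isoCount C k * q ^ k = isoCount C k * q ^ (k + 1) := by ring
      _ ≤ isoCount C k * q ^ (2 * k - 3) :=
          Nat.mul_le_mul_left _ (Nat.pow_le_pow_right (by omega) (by omega))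
      _ ≤ 2 * (isoCount C k * q ^ (2 * k - 3)) := Nat.le_mul_of_pos_left _ two_pos
      _ ≤ K * (d * d) := h1
      _ ≤ K * (d * q ^ k) := Nat.mul_le_mul_left _ (Nat.mul_le_mul_left _ hdk)
      _ = _ := by ring

end CfsgLib.PGroup.UnitAll
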