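import Cfsg.Agent.Lib.PGroup.UnitAll.Counts

/-!
The images of an additive group under the stabiliser of a hyperbolic pair, and their number.
-/

set_option autoImplicit false
set_option linter.unusedSectionVars false

namespace CfsgLib.PGroup.UnitAll

open Matrix Module CfsgLib.SU CfsgLib.Classical CfsgLib.Classical.HermIsoCount CfsgLib.PGroup.UnitIndex

variable {F : Type*} [Field F] [Fintype F] {q : ℕ} {C : UCtx F q} {n : ℕ}

local notation "V" => (Fin n → F)

/-- An element as an additive map. -/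
def addMap (g : ↥(Cfsg.SU n F q)) : (Fin n → F) →+ (Fin n → F) := (Matrix.mulVecLin g.1.1).toAddMonoidHom

theorem addMap_apply (g : ↥(Cfsg.SU n F q)) (v : V) : addMap g v = g.1.1 *ᵥ v := rfl

theorem addMap_injective (g : ↥(Cfsg.SU n F q)) : Function.Injective (addMap g) := fun a b h => by
  rw [← su_inv_mulVec g a, ← su_inv_mulVec g b]
  exact congrArg _ h

variable (P : UPair C n)

/-- The images under the stabiliser of the pair. -/
def imgs (U : AddSubgroup (Fin n → F)) : Set (AddSubgroup (Fin n → F)) :=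
  {S | ∃ g : ↥(Cfsg.SU n F q), P.Diag g 1 ∧ S = U.map (addMap g)}

variable {U : AddSubgroup (Fin n → F)}

theorem mem_imgs {g : ↥(Cfsg.SU n F q)} (hg : P.Diag g 1) : U.map (addMap g) ∈ imgs P U := ⟨g, hg, rfl⟩

theorem mem_img {g : ↥(Cfsg.SU n F q)} {a : V} (ha : a ∈ U) : g.1.1 *ᵥ a ∈ U.map (addMap g) := ⟨a, ha, rfl⟩

/-- Invariant properties have the same count in all images. -/
theorem ncard_img (p : V → Prop) (hp : ∀ (g : ↥(Cfsg.SU n F q)) (a : V), p (g.1.1 *ᵥ a) ↔ p a)
    {S : AddSubgroup V} (hS : S ∈ imgs P U) : {a | a ∈ S ∧ p a}.ncard = {a | a ∈ U ∧ p a}.ncard := by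
  obtain ⟨g, -, rfl⟩ := hS
  rw [show {a | a ∈ U.map (addMap g) ∧ p a} = addMap g '' {a | a ∈ U ∧ p a} by
    ext a
    constructor
    · rintro ⟨⟨b, hb, rfl⟩, ha⟩; exact ⟨b, ⟨hb, (hp g b).1 ha⟩, rfl⟩
    · rintro ⟨b, ⟨hb, hpb⟩, rfl⟩; exact ⟨⟨b, hb, rfl⟩, (hp g b).2 hpb⟩,
    Set.ncard_image_of_injective _ (addMap_injective g)]

theorem iso_invariant (g : ↥(Cfsg.SU n F q)) (a : V) :
    (g.1.1 *ᵥ a ≠ 0 ∧ C.form (g.1.1 *ᵥ a) (g.1.1 *ᵥ a) = 0) ↔ (a ≠ 0 ∧ C.form a a = 0) := by
  rw [C.form_su]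
  refine and_congr_left' (not_congr ⟨fun h => ?_, fun h => by rw [h, Matrix.mulVec_zero]⟩)
  rw [← su_inv_mulVec g a, h, Matrix.mulVec_zero]

theorem ne_invariant (g : ↥(Cfsg.SU n F q)) (a : V) : g.1.1 *ᵥ a ≠ 0 ↔ a ≠ 0 :=
  not_congr ⟨fun h => by rw [← su_inv_mulVec g a, h, Matrix.mulVec_zero], fun h => by
    rw [h, Matrix.mulVec_zero]⟩

/-- Tuples covered by the images. -/
theorem family_bound {τ : Type*} [Finite τ] (mem : τ → AddSubgroup V → Prop) (T : Set τ)
    (hT : ∀ t ∈ T, ∃ S ∈ imgs P U, mem t S) (B : ℕ) (hB : ∀ S ∈ imgs P U, {t | mem t S}.ncard ≤ B) :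
    T.ncard ≤ (imgs P U).ncard * B := by
  classical
  haveI : Fintype τ := Fintype.ofFinite _
  haveI : Finite (AddSubgroup V) :=
    Finite.of_injective (fun H : AddSubgroup V => (H : Set V)) SetLike.coe_injective
  have hfin : (imgs P U).Finite := Set.toFinite _
  have hsub : T.toFinset ⊆ hfin.toFinset.biUnion fun S => {t | mem t S}.toFinset := fun t ht => by
    obtain ⟨S, hS, htS⟩ := hT t (Set.mem_toFinset.1 ht)
    exact Finset.mem_biUnion.2 ⟨S, hfin.mem_toFinset.2 hS, Set.mem_toFinset.2 htS⟩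
  have h1 := Finset.card_le_card hsub
  rw [← Set.ncard_eq_toFinset_card'] at h1
  refine h1.trans (Finset.card_biUnion_le.trans ?_)
  rw [Set.ncard_eq_toFinset_card (imgs P U) hfin, ← smul_eq_mul]
  exact Finset.sum_le_card_nsmul _ _ _ fun S hS => by
    rw [← Set.ncard_eq_toFinset_card']
    exact hB S (hfin.mem_toFinset.1 hS)

/-- Pairs with the second entry ranging over a set depending on the first. -/
theorem ncard_pairs_ge {A : Set V} {B : V → Set V} {b : ℕ} (h : ∀ x ∈ A, b ≤ (B x).ncard) :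
    A.ncard * b ≤ {p : V × V | p.1 ∈ A ∧ p.2 ∈ B p.1}.ncard := by
  classical
  haveI : Fintype V := Fintype.ofFinite _
  have h1 : A.ncard * b ≤ (A.toFinset.sigma fun x => (B x).toFinset).card := by
    rw [Finset.card_sigma, Set.ncard_eq_toFinset_card', ← smul_eq_mul]
    exact Finset.card_nsmul_le_sum _ _ _ fun x hx => by
      rw [← Set.ncard_eq_toFinset_card']; exact h x (Set.mem_toFinset.1 hx)
  refine h1.trans ?_
  rw [← Set.ncard_coe_finset]
  refine Set.ncard_le_ncard_of_injOn (fun s => (s.1, s.2)) ?_ ?_ (Set.toFinite _)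
  · intro s hs
    simp only [Finset.coe_sigma, Set.mem_sigma_iff, Finset.mem_coe, Set.mem_toFinset] at hs
    exact hs
  · intro s _ r _ h
    exact Sigma.ext (congrArg Prod.fst h) (heq_of_eq (congrArg Prod.snd h))

/-- Pairs with the second entry in a set and boundedly many first entries. -/
theorem ncard_pairs_le' {A : V → Set V} {B : Set V} {a : ℕ} (h : ∀ z ∈ B, (A z).ncard ≤ a) :
    {p : V × V | p.2 ∈ B ∧ p.1 ∈ A p.2}.ncard ≤ B.ncard * a := by
  classical
  haveI : Fintype V := Fintype.ofFinite _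
  have h1 : (B.toFinset.sigma fun z => (A z).toFinset).card ≤ B.ncard * a := by
    rw [Finset.card_sigma, Set.ncard_eq_toFinset_card', ← smul_eq_mul]
    exact Finset.sum_le_card_nsmul _ _ _ fun z hz => by
      rw [← Set.ncard_eq_toFinset_card']; exact h z (Set.mem_toFinset.1 hz)
  refine le_trans ?_ h1
  rw [← Set.ncard_coe_finset]
  refine Set.ncard_le_ncard_of_injOn (fun p => ⟨p.2, p.1⟩) ?_ ?_ (Set.toFinite _)
  · rintro p ⟨h2, h1⟩
    simp only [Finset.coe_sigma, Set.mem_sigma_iff, Finset.mem_coe, Set.mem_toFinset]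
    exact ⟨h2, h1⟩
  · intro s _ r _ h
    simp only [Sigma.mk.injEq, heq_eq_eq] at h
    exact Prod.ext h.2 h.1

variable (hn : 5 ≤ n) (hU : ∀ a ∈ U, a ∈ P.perp)
include hn hU

theorem exists_move_one {a : V} (ha : a ∈ U) (ha0 : a ≠ 0) {x : V} (hx : x ∈ sph P (C.form a a) \ {0}) :
    ∃ g : ↥(Cfsg.SU n F q), P.Diag g 1 ∧ g.1.1 *ᵥ a = x := by
  obtain ⟨⟨hx, hxx⟩, hx0⟩ := hx
  obtain ⟨g, hg, hga⟩ := exists_su_perp P (t := ![a]) (t' := ![x]) (linearIndependent_unique_iff.2 ha0)
    (linearIndependent_unique_iff.2 hx0) (fun i => by fin_cases i; exact hU a ha)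
    (fun i => by fin_cases i; exact hx) (fun i j => by fin_cases i; fin_cases j; exact hxx.symm)
    (Or.inl (by omega))
  exact ⟨g, hg, hga 0⟩

theorem card_nonzero_img {S : AddSubgroup V} (hS : S ∈ imgs P U) :
    {v | v ∈ S ∧ v ≠ 0}.ncard = Nat.card U - 1 := by
  rw [ncard_img P (fun v => v ≠ 0) ne_invariant hS,
    show {v | v ∈ U ∧ v ≠ 0} = (U : Set V) \ {0} from rfl,
    Set.ncard_sdiff_singleton_of_mem (show (0 : V) ∈ (U : Set V) from U.zero_mem), ← Nat.card_coe_set_eq]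
  rfl

/-- The vectors of one norm are covered. -/
theorem cover_one {a : V} (ha : a ∈ U) (ha0 : a ≠ 0) :
    (sph P (C.form a a) \ {0}).ncard ≤ (imgs P U).ncard * (Nat.card U - 1) := by
  refine family_bound P (fun x S => x ∈ S ∧ x ≠ 0) _ (fun x hx => ?_) _
    fun S hS => (card_nonzero_img P hn hU hS).le
  obtain ⟨g, hg, rfl⟩ := exists_move_one P hn hU ha ha0 hx
  exact ⟨_, mem_imgs P hg, mem_img ha, hx.2⟩

/-- The isotropic vectors are covered by the isotropic vectors of the images. -/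
theorem cover_iso {a : V} (ha : a ∈ U) (ha0 : a ≠ 0) (haa : C.form a a = 0) :
    (sph P 0 \ {0}).ncard ≤ (imgs P U).ncard * {v | v ∈ U ∧ v ≠ 0 ∧ C.form v v = 0}.ncard := by
  refine family_bound P (fun x S => x ∈ S ∧ x ≠ 0 ∧ C.form x x = 0) _ (fun x hx => ?_) _
    fun S hS => (ncard_img P _ iso_invariant hS).le
  obtain ⟨g, hg, rfl⟩ := exists_move_one P hn hU ha ha0 (by rwa [haa])
  exact ⟨_, mem_imgs P hg, mem_img ha, hx.2, hx.1.2⟩

/-- Two spheres are covered. -/
theorem cover_two {a b : V} (ha : a ∈ U) (ha0 : a ≠ 0) (hb : b ∈ U) (hb0 : b ≠ 0)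
    (hne : C.form a a ≠ C.form b b) :
    (sph P (C.form a a) \ {0}).ncard + (sph P (C.form b b) \ {0}).ncard ≤
      (imgs P U).ncard * (Nat.card U - 1) := by
  rw [← Set.ncard_union_eq (Set.disjoint_left.2 fun x hx hx' => hne (hx.1.2.symm.trans hx'.1.2))
    (Set.toFinite _) (Set.toFinite _)]
  refine family_bound P (fun x S => x ∈ S ∧ x ≠ 0) _ (fun x hx => ?_) _
    fun S hS => (card_nonzero_img P hn hU hS).le
  rcases hx with hx | hx
  · obtain ⟨g, hg, rfl⟩ := exists_move_one P hn hU ha ha0 hx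
    exact ⟨_, mem_imgs P hg, mem_img ha, hx.2⟩
  · obtain ⟨g, hg, rfl⟩ := exists_move_one P hn hU hb hb0 hx
    exact ⟨_, mem_imgs P hg, mem_img hb, hx.2⟩

/-- Pairs of an isotropic and an anisotropic vector. -/
theorem cover_mixed {a b : V} (ha : a ∈ U) (ha0 : a ≠ 0) (haa : C.form a a = 0) (hb : b ∈ U)
    (hbb : C.form b b ≠ 0) (hcase : C.form b a ≠ 0 ∨ 6 ≤ n) {B T3 : ℕ}
    (hB : ∀ z ∈ U, C.form z z ≠ 0 → {x | x ∈ U ∧ C.form x z = 0}.ncard ≤ B)
    (hT3 : ∀ x ∈ sph P 0 \ {0}, T3 ≤ (slice P x (C.form b a) (C.form b b)).ncard) :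
    (sph P 0 \ {0}).ncard * T3 ≤
      (imgs P U).ncard * ({v | v ∈ U ∧ C.form v v ≠ 0}.ncard * B) := by
  set β := C.form b a with hβ
  set c := C.form b b with hc
  refine (ncard_pairs_ge (B := fun x => slice P x β c) hT3).trans ?_
  refine family_bound P (fun p S => p.1 ∈ S ∧ p.2 ∈ S ∧ C.form p.2 p.2 ≠ 0 ∧ C.form p.2 p.1 = β) _
    (fun p hp => ?_) _ fun S hS => ?_
  · obtain ⟨⟨⟨hx, hxx⟩, hx0⟩, hz, hzx, hzz⟩ := hp
    obtain ⟨g, hg, hga, hgb⟩ : ∃ g : ↥(Cfsg.SU n F q), P.Diag g 1 ∧ g.1.1 *ᵥ a = p.1 ∧ g.1.1 *ᵥ b = p.2 := by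
      by_cases hne : β ≠ 0
      · exact exists_su_pair P hn (hU a ha) (hU b hb) hx hz haa hxx (by rw [hzz]) (by rw [hzx]) hne
      have h6 : 6 ≤ n := hcase.resolve_left hne
      rw [not_not] at hne
      have hli : ∀ u v : V, u ≠ 0 → C.form u u = 0 → C.form v v ≠ 0 → LinearIndependent F ![u, v] := by
        intro u v hu huu hvv
        rw [linearIndependent_fin2]
        simp only [Matrix.cons_val_one, Matrix.cons_val_zero]
        refine ⟨fun h => hvv (by rw [h, C.form_zero_left]), fun d hd => hvv ?_⟩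
        rcases eq_or_ne d 0 with rfl | hd0
        · rw [zero_smul] at hd; exact absurd hd.symm hu
        · rw [show v = d⁻¹ • u by rw [← hd, smul_smul, inv_mul_cancel₀ hd0, one_smul], C.form_smul_left,
            C.form_smul_right, huu, mul_zero, mul_zero]
      obtain ⟨g, hg, hgt⟩ := exists_su_perp P (hli a b ha0 haa hbb) (hli p.1 p.2 hx0 hxx (by rw [hzz]; exact hbb))
        (fun i => by fin_cases i <;> [exact hU a ha; exact hU b hb])
        (fun i => by fin_cases i <;> [exact hx; exact hz]) (fun i j => by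
          fin_cases i <;> fin_cases j
          · exact haa.trans hxx.symm
          · show C.form a b = C.form p.1 p.2
            rw [← C.bar_form, ← hβ, ← hzx, C.bar_form]
          · exact hzx.symm
          · exact hzz.symm) (Or.inr ⟨by omega, 1, 1, hbb⟩)
      exact ⟨g, hg, hgt 0, hgt 1⟩
    refine ⟨_, mem_imgs P hg, ?_, ?_, by rw [hzz]; exact hbb, hzx⟩
    · rw [← hga]; exact mem_img ha
    · rw [← hgb]; exact mem_img hb
  · have h1 : {z | z ∈ S ∧ C.form z z ≠ 0}.ncard = {v | v ∈ U ∧ C.form v v ≠ 0}.ncard :=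
      ncard_img P (fun v => C.form v v ≠ 0) (fun g v => by rw [C.form_su]) hS
    rw [← h1]
    refine le_trans (Set.ncard_le_ncard (fun p hp => show p ∈ {p : V × V |
        p.2 ∈ {z | z ∈ S ∧ C.form z z ≠ 0} ∧ p.1 ∈ (fun z => {x | x ∈ S ∧ C.form z x = β}) p.2} from
      ⟨⟨hp.2.1, hp.2.2.1⟩, hp.1, hp.2.2.2⟩) (Set.toFinite _))
      (ncard_pairs_le' (A := fun z => {x | x ∈ S ∧ C.form z x = β}) fun z hz => ?_)
    obtain ⟨g, -, rfl⟩ := hS
    obtain ⟨⟨w, hw, rfl⟩, hzz⟩ := hz
    rw [addMap_apply, C.form_su] at hzz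
    have hker := hB w hw hzz
    rcases Set.eq_empty_or_nonempty {x | x ∈ U.map (addMap g) ∧ C.form (addMap g w) x = β} with h | ⟨x₀, hx₀, hx₀β⟩
    · rw [h, Set.ncard_empty]; exact Nat.zero_le _
    refine le_trans (Set.ncard_le_ncard_of_injOn (fun x => (addMap g⁻¹) (x - x₀)) ?_ ?_ (Set.toFinite _)) hker
    · rintro x ⟨hx, hxβ⟩
      obtain ⟨u, hu, rfl⟩ := hx
      obtain ⟨u₀, hu₀, rfl⟩ := hx₀
      simp only [addMap_apply] at hxβ hx₀β ⊢
      rw [C.form_su] at hxβ hx₀β
      rw [← Matrix.mulVec_sub, su_inv_mulVec]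
      exact ⟨U.sub_mem hu hu₀, C.form_swap_zero (by rw [C.form_sub_right, hxβ, hx₀β, sub_self])⟩
    · exact fun x _ y _ h => sub_left_injective (addMap_injective g⁻¹ h)

/-- Orthogonal pairs, when the isotropic vectors lie on a line. -/
theorem cover_line {a b : V} (ha : a ∈ U) (ha0 : a ≠ 0) (haa : C.form a a = 0) (hb : b ∈ U)
    (hbb : C.form b b ≠ 0) (hba : C.form b a = 0)
    (hline : ∀ v ∈ U, C.form v v = 0 → ∃ d : F, v = d • a) {T3 : ℕ}
    (hT3 : ∀ x ∈ sph P 0 \ {0}, T3 ≤ (slice P x 0 (C.form b b)).ncard) :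
    (sph P 0 \ {0}).ncard * T3 ≤
      (imgs P U).ncard * ({v | v ∈ U ∧ C.form v v ≠ 0}.ncard * (Fintype.card F - 1)) := by
  classical
  set c := C.form b b with hc
  refine (ncard_pairs_ge (B := fun x => slice P x 0 c) hT3).trans ?_
  refine family_bound P (fun p S => p.2 ∈ S ∧ C.form p.2 p.2 ≠ 0 ∧ p.1 ≠ 0 ∧
    ∃ u ∈ S, C.form u u = 0 ∧ ∃ d : F, p.1 = d • u) _ (fun p hp => ?_) _ fun S hS => ?_
  · obtain ⟨⟨⟨hx, hxx⟩, hx0⟩, hz, hzx, hzz⟩ := hp
    have hli : ∀ u v : V, u ≠ 0 → C.form u u = 0 → C.form v v ≠ 0 → LinearIndependent F ![u, v] := by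
      intro u v hu huu hvv
      rw [linearIndependent_fin2]
      simp only [Matrix.cons_val_one, Matrix.cons_val_zero]
      refine ⟨fun h => hvv (by rw [h, C.form_zero_left]), fun d hd => hvv ?_⟩
      rcases eq_or_ne d 0 with rfl | hd0
      · rw [zero_smul] at hd; exact absurd hd.symm hu
      · rw [show v = d⁻¹ • u by rw [← hd, smul_smul, inv_mul_cancel₀ hd0, one_smul], C.form_smul_left,
          C.form_smul_right, huu, mul_zero, mul_zero]
    obtain ⟨g, l, hg, hl0, hga, hgb⟩ := exists_su_scaled P (t := ![a, b]) (t' := ![p.1, p.2])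
      (hli a b ha0 haa hbb) (hli p.1 p.2 hx0 hxx (by rw [hzz]; exact hbb))
      (fun i => by fin_cases i <;> [exact hU a ha; exact hU b hb])
      (fun i => by fin_cases i <;> [exact hx; exact hz]) (fun i j => by
        fin_cases i <;> fin_cases j
        · exact haa.trans hxx.symm
        · show C.form a b = C.form p.1 p.2
          rw [C.form_swap_zero hba, C.form_swap_zero hzx]
        · exact hba.trans hzx.symm
        · exact hzz.symm) hxx hzx
    simp only [Matrix.cons_val_zero, Matrix.cons_val_one] at hga hgb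
    refine ⟨_, mem_imgs P hg, by rw [← hgb]; exact mem_img hb, by rw [hzz]; exact hbb, hx0,
      g.1.1 *ᵥ a, mem_img ha, by rw [C.form_su]; exact haa, l⁻¹, ?_⟩
    rw [hga, smul_smul, inv_mul_cancel₀ hl0, one_smul]
  · have h1 : {z | z ∈ S ∧ C.form z z ≠ 0}.ncard = {v | v ∈ U ∧ C.form v v ≠ 0}.ncard :=
      ncard_img P (fun v => C.form v v ≠ 0) (fun g v => by rw [C.form_su]) hS
    rw [← h1]
    obtain ⟨g, -, rfl⟩ := hS
    refine le_trans (Set.ncard_le_ncard (fun p hp => show p ∈ {p : V × V |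
        p.2 ∈ {z | z ∈ U.map (addMap g) ∧ C.form z z ≠ 0} ∧
        p.1 ∈ (fun _ => (Submodule.span F {g.1.1 *ᵥ a} : Set V) \ {0}) p.2} from ?_) (Set.toFinite _))
      (ncard_pairs_le' (A := fun _ => (Submodule.span F {g.1.1 *ᵥ a} : Set V) \ {0}) fun z _ => ?_)
    · obtain ⟨h2, h2', h0, u, ⟨u', hu', rfl⟩, huu, d, hd⟩ := hp
      rw [addMap_apply, C.form_su] at huu
      obtain ⟨e, rfl⟩ := hline u' hu' huu
      refine ⟨⟨h2, h2'⟩, Submodule.mem_span_singleton.2 ⟨d * e, ?_⟩, h0⟩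
      rw [hd, addMap_apply, Matrix.mulVec_smul, smul_smul]
    · rw [Set.ncard_sdiff_singleton_of_mem (show (0 : V) ∈ (Submodule.span F {g.1.1 *ᵥ a} : Set V) from
        Submodule.zero_mem _), ← Nat.card_coe_set_eq]
      refine Nat.sub_le_sub_right (le_of_eq ?_) 1
      show Nat.card (Submodule.span F {g.1.1 *ᵥ a}) = _
      rw [Module.natCard_eq_pow_finrank (K := F), finrank_span_singleton ((ne_invariant g a).2 ha0),
        pow_one, Nat.card_eq_fintype_card]

/-- Pairs of isotropic vectors with a non-zero product. -/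
theorem cover_iso_gram (hn6 : 6 ≤ n) {a b : V} (ha : a ∈ U) (haa : C.form a a = 0) (hb : b ∈ U)
    (hbb : C.form b b = 0) (hne : C.form b a ≠ 0) {T3 : ℕ}
    (hT3 : ∀ x ∈ sph P 0 \ {0}, T3 ≤ (slice P x (C.form b a) 0).ncard) :
    2 * ((sph P 0 \ {0}).ncard * T3) ≤ (imgs P U).ncard * (Nat.card U * Nat.card U) := by
  set β := C.form b a with hβ
  set s := Nat.card U with hs
  have h2 : (sph P 0 \ {0}).ncard * T3 ≤ (imgs P U).ncard * (s * s / 2) := by
    refine (ncard_pairs_ge (B := fun x => slice P x β 0) hT3).trans ?_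
    refine family_bound P (fun p S => p.1 ∈ S ∧ p.2 ∈ S ∧ C.form p.2 p.1 = β) _
      (fun p hp => ?_) _ fun S hS => ?_
    · obtain ⟨⟨⟨hx, hxx⟩, hx0⟩, hz, hzx, hzz⟩ := hp
      obtain ⟨g, hg, hga, hgb⟩ := exists_su_pair P hn (hU a ha) (hU b hb) hx hz haa hxx (by rw [hzz, hbb])
        (by rw [hzx]) hne
      exact ⟨_, mem_imgs P hg, by rw [← hga]; exact mem_img ha, by rw [← hgb]; exact mem_img hb, hzx⟩
    · obtain ⟨g, -, rfl⟩ := hS
      have hc : Nat.card (U.map (addMap g)) = s :=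
        (Nat.card_congr (U.equivMapOfInjective _ (addMap_injective g)).toEquiv).symm
      rw [Nat.le_div_iff_mul_le two_pos, mul_comm, ← hc]
      exact ncard_gram_pairs_le _ hne
  refine (Nat.mul_le_mul_left 2 h2).trans ?_
  rw [mul_left_comm]
  exact Nat.mul_le_mul_left _ (Nat.mul_div_le _ _)

/-- Pairs spanning totally isotropic planes. -/
theorem cover_planes (hF : Fintype.card F = q ^ 2) {a b : V} (ha : a ∈ U) (hb : b ∈ U)
    (hli : LinearIndependent F ![a, b]) (h0 : ∀ u ∈ U, ∀ v ∈ U, C.form u v = 0) :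
    (isoPairs P).ncard ≤ (imgs P U).ncard * ((Nat.card U - 1) * (q ^ (n - 2) - q ^ 2)) := by
  classical
  refine family_bound P (fun t S => t 0 ∈ Submodule.span F (S : Set V) ∧ t 1 ∈ S ∧
    LinearIndependent F t) _ (fun t ht => ?_) _ fun S hS => ?_
  · obtain ⟨htp, htli, ht0⟩ := ht
    have hab : ∀ i, ![a, b] i ∈ U := fun i => by fin_cases i <;> [exact ha; exact hb]
    obtain ⟨g, l, hg, hl0, hga, hgb⟩ := exists_su_scaled P (t := ![a, b]) (t' := t) hli htli
      (fun i => hU _ (hab i)) htp (fun i j => (h0 _ (hab i) _ (hab j)).trans (ht0 i j).symm) (ht0 0 0) (ht0 1 0)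
    simp only [Matrix.cons_val_zero, Matrix.cons_val_one] at hga hgb
    refine ⟨_, mem_imgs P hg, ?_, by rw [← hgb]; exact mem_img hb, htli⟩
    have h := Submodule.smul_mem (Submodule.span F (U.map (addMap g) : Set V)) l⁻¹
      (Submodule.subset_span (R := F) (mem_img (g := g) ha))
    rwa [hga, smul_smul, inv_mul_cancel₀ hl0, one_smul] at h
  · have h1 := card_nonzero_img P hn hU hS
    obtain ⟨g, hgd, rfl⟩ := hS
    set S := U.map (addMap g)
    set M := Submodule.span F (S : Set V) with hM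
    have hperp : M ≤ P.perp := Submodule.span_le.2 (by
      rintro _ ⟨u, hu, rfl⟩
      have h := hgd.mem (hU u hu)
      rwa [map_one, one_smul] at h)
    have hts : ∀ x ∈ M, ∀ z ∈ M, C.form x z = 0 := by
      intro x hx z hz
      induction hx using Submodule.span_induction with
      | zero => exact C.form_zero_left _
      | add u v _ _ h h' => rw [C.form_add_left, h, h', add_zero]
      | smul c u _ h => rw [C.form_smul_left, h, mul_zero]
      | mem u hu =>
        induction hz using Submodule.span_induction with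
        | zero => exact C.form_zero_right _
        | add v w _ _ h h' => rw [C.form_add_right, h, h', add_zero]
        | smul c v _ h => rw [C.form_smul_right, h, mul_zero]
        | mem v hv =>
          obtain ⟨u', hu', rfl⟩ := hu
          obtain ⟨v', hv', rfl⟩ := hv
          rw [addMap_apply, addMap_apply, C.form_su]
          exact h0 u' hu' v' hv'
    have hdim := ts_finrank P hperp hts
    have hle : Nat.card M ≤ q ^ (n - 2) := by
      rw [Module.natCard_eq_pow_finrank (K := F), Nat.card_eq_fintype_card, hF, ← pow_mul]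
      exact Nat.pow_le_pow_right (Nat.pos_of_ne_zero C.q_ne_zero) hdim
    refine le_trans (Set.ncard_le_ncard_of_injOn (fun t : Fin 2 → V => ((t 0 : V), (t 1 : V)))
      (t := {p : V × V | p.2 ∈ {v | v ∈ S ∧ v ≠ 0} ∧
        p.1 ∈ (fun z => (M : Set V) \ (Submodule.span F {z} : Set V)) p.2}) ?_ ?_ (Set.toFinite _)) ?_
    · rintro t ⟨h2, h3, hli'⟩
      refine ⟨⟨h3, hli'.ne_zero 1⟩, h2, fun h => ?_⟩
      obtain ⟨c, hc⟩ := Submodule.mem_span_singleton.1 h
      have := Fintype.linearIndependent_iff.1 hli' ![1, -c]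
        (by simp [Fin.sum_univ_two, hc]) 0
      simp at this
    · intro s _ r _ h
      funext i
      fin_cases i
      · exact congrArg Prod.fst h
      · exact congrArg Prod.snd h
    rw [← h1]
    refine ncard_pairs_le' (A := fun z => (M : Set V) \ (Submodule.span F {z} : Set V)) fun z hz => ?_
    rw [Set.ncard_sdiff (SetLike.coe_subset_coe.2 ((Submodule.span_singleton_le_iff_mem _ _).2
      (Submodule.subset_span hz.1))), ← Nat.card_coe_set_eq, ← Nat.card_coe_set_eq]
    show Nat.card M - Nat.card (Submodule.span F {z}) ≤ _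
    have hz' : Nat.card (Submodule.span F {z}) = q ^ 2 := by
      rw [Module.natCard_eq_pow_finrank (K := F), finrank_span_singleton hz.2,
        pow_one, Nat.card_eq_fintype_card, hF]
    rw [hz']
    exact Nat.sub_le_sub_right hle _

end CfsgLib.PGroup.UnitAll
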