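import Cfsg.Agent.Lib.SU.Ctx
import Mathlib

/-!
An additive group of more than `q ^ 2` vectors of a unitary space contains a non-zero isotropic vector.
-/

set_option autoImplicit false
set_option linter.unusedSectionVars false

namespace CfsgLib.PGroup.UnitAll

open CfsgLib.SU MvPolynomial

/-- The sum of a polynomial of small degree over the points with prime coordinates vanishes. -/
theorem sum_prime_points {p : ℕ} [Fact p.Prime] {F : Type*} [Field F] (ι : ZMod p →+* F) {d : ℕ}
    (P : MvPolynomial (Fin d) F) (h : P.totalDegree < (p - 1) * d) :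
    ∑ x : Fin d → ZMod p, eval (fun i => ι (x i)) P = 0 := by
  classical
  simp only [eval_eq']
  rw [Finset.sum_comm]
  refine Finset.sum_eq_zero fun m hm => ?_
  obtain ⟨i, hi⟩ := P.exists_degree_lt (p - 1) (by rwa [Fintype.card_fin]) hm
  rw [← Finset.mul_sum]
  refine mul_eq_zero_of_right _ ?_
  have e : ∀ x : Fin d → ZMod p, ∏ l, ι (x l) ^ m l = ι (∏ l, x l ^ m l) := fun x => by
    rw [map_prod]; simp only [map_pow]
  simp only [e]
  rw [← map_sum, ← Fintype.prod_sum (fun (l : Fin d) (t : ZMod p) => t ^ m l),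
    Finset.prod_eq_zero (Finset.mem_univ i), map_zero]
  exact FiniteField.sum_pow_lt_card_sub_one (ZMod p) _ (by rwa [ZMod.card p])

theorem exists_prime_data {F : Type*} [Field F] [Fintype F] {q : ℕ} (hF : Fintype.card F = q ^ 2) :
    ∃ p f : ℕ, p.Prime ∧ 0 < f ∧ q = p ^ f ∧ CharP F p := by
  obtain ⟨p, hp⟩ := CharP.exists F
  obtain ⟨⟨k, hk0⟩, hpr, hk⟩ := FiniteField.card F p
  obtain ⟨f, -, rfl⟩ := (Nat.dvd_prime_pow hpr).1 (show q ∣ p ^ k from ⟨q, by rw [← pow_two, ← hF]; exact hk.symm⟩)
  refine ⟨p, f, hpr, Nat.pos_of_ne_zero fun h => ?_, rfl, hp⟩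
  have := Fintype.one_lt_card (α := F)
  rw [hF, h] at this
  simp at this

variable {F : Type*} [Field F] [Fintype F] {q : ℕ} {n : ℕ}

theorem exists_isotropic_hom (C : UCtx F q) (hF : Fintype.card F = q ^ 2) {A : Type*} [AddCommGroup A]
    [Fintype A] (v : A →+ (Fin n → F)) (hv : Function.Injective v) (hU : q ^ 2 < Nat.card A) :
    ∃ a : A, a ≠ 0 ∧ C.form (v a) (v a) = 0 := by
  classical
  obtain ⟨p, f, hp, hf, rfl, hch⟩ := exists_prime_data hF
  haveI : Fact p.Prime := ⟨hp⟩
  haveI : ExpChar F p := ExpChar.prime hp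
  haveI : CharP F p := hch
  set ι : ZMod p →+* F := ZMod.castHom dvd_rfl F with hι
  have hexp : ∀ x : A, p • x = 0 := by
    intro x
    apply hv
    rw [map_nsmul, map_zero, ← Nat.cast_smul_eq_nsmul F, CharP.cast_eq_zero, zero_smul]
  haveI hmod : Module (ZMod p) A := AddCommGroup.zmodModule hexp
  haveI : Module.Finite (ZMod p) A := Module.Finite.of_finite
  let b := Module.finBasis (ZMod p) A
  set d := Module.finrank (ZMod p) A with hd
  have hcard : Nat.card A = p ^ d := by
    rw [Module.natCard_eq_pow_finrank (K := ZMod p), Nat.card_zmod]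
  have hfd : 2 * f < d := by
    rw [hcard, ← pow_mul, mul_comm] at hU
    exact (Nat.pow_lt_pow_iff_right hp.one_lt).1 hU
  by_contra hcon
  simp only [not_exists, not_and] at hcon
  have hcoe : ∀ (r : ZMod p) (x : A), v (r • x) = ι r • v x := fun r x => by
    rw [← ZMod.natCast_zmod_val r, Nat.cast_smul_eq_nsmul, map_nsmul, map_natCast, Nat.cast_smul_eq_nsmul]
  set vec : (Fin d → ZMod p) → (Fin n → F) := fun x => ∑ i, ι (x i) • (v (b i)) with hvec
  have hvU : ∀ x, vec x = v (b.equivFun.symm x) := fun x => by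
    rw [b.equivFun_symm_apply, map_sum]
    exact Finset.sum_congr rfl fun i _ => (hcoe _ _).symm
  let P : MvPolynomial (Fin d) F := ∏ j ∈ Finset.range f,
    (∑ i, ∑ l, MvPolynomial.C (C.form (v (b i)) (v (b l)) ^ p ^ j) * X i * X l) ^ (p - 1)
  have hbarι : ∀ r : ZMod p, C.bar (ι r) = ι r := fun r => by
    rw [← ZMod.natCast_zmod_val r, map_natCast, map_natCast]
  have hval : ∀ x : Fin d → ZMod p, eval (fun i => ι (x i)) P = C.form (vec x) (vec x) ^ (p ^ f - 1) := by
    intro x
    have hQ : ∀ j, C.form (vec x) (vec x) ^ p ^ j =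
        ∑ i, ∑ l, C.form (v (b i)) (v (b l)) ^ p ^ j * ι (x i) * ι (x l) := fun j => by
      have e : C.form (vec x) (vec x) = ∑ i, ∑ l, C.form (v (b i)) (v (b l)) * ι (x i) * ι (x l) := by
        rw [hvec, C.form_sum_left]
        refine Finset.sum_congr rfl fun i _ => ?_
        rw [C.form_smul_left, ← C.bar_form, C.form_sum_left, map_sum, Finset.mul_sum]
        refine Finset.sum_congr rfl fun l _ => ?_
        rw [C.form_smul_left, map_mul, C.bar_form, hbarι]
        ring
      rw [e, sum_pow_char_pow]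
      refine Finset.sum_congr rfl fun i _ => ?_
      rw [sum_pow_char_pow]
      refine Finset.sum_congr rfl fun l _ => ?_
      rw [mul_pow, mul_pow, ← map_pow, ← map_pow, ZMod.pow_card_pow, ZMod.pow_card_pow]
    simp only [P, map_prod, map_pow, map_sum, map_mul, eval_C, eval_X, ← hQ]
    rw [Finset.prod_pow, Finset.prod_pow_eq_pow_sum, ← pow_mul]
    congr 1
    have := geom_sum_mul_add (p - 1) f
    rw [Nat.sub_add_cancel hp.one_le] at this
    omega
  have hdeg : P.totalDegree < (p - 1) * d := by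
    refine lt_of_le_of_lt ((totalDegree_finset_prod _ _).trans
      (Finset.sum_le_card_nsmul _ _ ((p - 1) * 2) fun j _ => ?_)) ?_
    · refine (totalDegree_pow _ _).trans (Nat.mul_le_mul_left _ ?_)
      refine totalDegree_finsetSum_le fun i _ => totalDegree_finsetSum_le fun l _ => ?_
      refine (totalDegree_mul _ _).trans ?_
      rw [totalDegree_X]
      have h := totalDegree_mul (MvPolynomial.C (C.form (v (b i)) (v (b l)) ^ p ^ j)) (X i)
      rw [totalDegree_C, totalDegree_X] at h
      omega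
    · rw [Finset.card_range, smul_eq_mul]
      calc f * ((p - 1) * 2) = (p - 1) * (2 * f) := by ring
        _ < _ := Nat.mul_lt_mul_of_pos_left hfd (by have := hp.two_le; omega)
  have hsum := sum_prime_points ι P hdeg
  simp only [hval] at hsum
  have h0 : vec 0 = 0 := by simp [hvec]
  have hone : ∀ x, x ≠ 0 → C.form (vec x) (vec x) ^ (p ^ f - 1) = 1 := by
    intro x hx
    have hne : vec x ≠ 0 := fun h => hx (by
      rw [hvU] at h
      have := congrArg b.equivFun ((map_eq_zero_iff v hv).1 h)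
      rwa [LinearEquiv.apply_symm_apply, map_zero] at this)
    have hQ0 : C.form (vec x) (vec x) ≠ 0 := (hvU x) ▸ hcon _ (fun h => hne (by rw [hvU, h, map_zero]))
    have hfix := C.form_self_fixed (vec x)
    rw [C.bar_eq] at hfix
    refine mul_right_cancel₀ hQ0 ?_
    rw [← pow_succ, Nat.sub_add_cancel (Nat.one_le_pow _ _ hp.pos), one_mul, hfix]
  rw [← Finset.sum_erase_add _ _ (Finset.mem_univ (0 : Fin d → ZMod p)),
    Finset.sum_congr rfl (fun x hx => hone x (Finset.ne_of_mem_erase hx)), h0, C.form_zero_left,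
    zero_pow (Nat.sub_ne_zero_of_lt (Nat.one_lt_pow hf.ne' hp.one_lt)), add_zero,
    Finset.sum_const, Finset.card_erase_of_mem (Finset.mem_univ _), Finset.card_univ, Fintype.card_fun,
    ZMod.card, Fintype.card_fin, nsmul_one, Nat.cast_sub (Nat.one_le_pow _ _ hp.pos), Nat.cast_pow,
    CharP.cast_eq_zero, zero_pow (by omega : d ≠ 0), Nat.cast_one, zero_sub, neg_eq_zero] at hsum
  exact one_ne_zero hsum

/-- The isotropic vectors in a large additive group. -/
theorem exists_isotropic_mem (C : UCtx F q) (hF : Fintype.card F = q ^ 2) (U : AddSubgroup (Fin n → F))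
    (hU : q ^ 2 < Nat.card U) : ∃ a ∈ U, a ≠ 0 ∧ C.form a a = 0 := by
  haveI : Fintype U := Fintype.ofFinite U
  obtain ⟨a, ha, h⟩ := exists_isotropic_hom C hF U.subtype U.subtype_injective hU
  exact ⟨a.1, a.2, fun h0 => ha (Subtype.ext h0), h⟩

end CfsgLib.PGroup.UnitAll
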