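import Cfsg.Agent.Lib.PGroup.UnitAll.Equal
import Cfsg.Agent.Lib.Perm.Trans.UnitSU

/-!
A small transitive action of a special unitary group in dimension at least five is trivial.
-/

set_option autoImplicit false
set_option linter.unusedSectionVars false

namespace CfsgLib.PGroup.UnitAll

open Matrix Module CfsgLib.SU CfsgLib.Classical CfsgLib.Classical.HermIsoCount CfsgLib.PGroup.UnitIndex

variable {F : Type*} [Field F] [Fintype F] {q : ℕ} {C : UCtx F q} {n : ℕ}

local notation "V" => (Fin n → F)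

theorem exists_weight : ∃ ε : F, ε * C.bar ε = 1 ∧ ε ≠ 1 ∧ ε * ε ≠ 1 := by
  obtain ⟨y, hy⟩ := C.exists_sq_ne
  have hy0 : y ≠ 0 := fun h => hy (by rw [h, map_zero])
  have hb : C.bar y ≠ 0 := by simpa using hy0
  refine ⟨y / C.bar y, ?_, fun h => hy ?_, fun h => hy ?_⟩
  · rw [map_div₀, C.bar_bar]; field_simp
  · rw [div_eq_one_iff_eq hb] at h; rw [← h]
  · rw [div_mul_div_comm, div_eq_one_iff_eq (mul_ne_zero hb hb)] at h
    rw [sq, sq, h]

theorem exists_weights {ε : F} (hε : ε * C.bar ε = 1) (h1 : ε ≠ 1) (h2 : ε * ε ≠ 1) :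
    ∀ r : ℕ, 1 ≤ r → ∃ f : Fin r → F, (∀ i, f i * C.bar (f i) = 1 ∧ f i ≠ 1) ∧ ∏ i, f i = (ε * ε)⁻¹ := by
  have hε0 : ε ≠ 0 := left_ne_zero_of_mul_eq_one hε
  have hinv : ε⁻¹ * C.bar ε⁻¹ = 1 := by rw [map_inv₀, ← mul_inv, hε, inv_one]
  have hne : ε⁻¹ ≠ 1 := fun h => h1 (inv_eq_one.1 h)
  intro r
  induction r using Nat.twoStepInduction with
  | zero => exact fun h => absurd h (by omega)
  | one =>
    refine fun _ => ⟨fun _ => (ε * ε)⁻¹, fun _ => ⟨?_, fun h => h2 (inv_eq_one.1 h)⟩, by simp⟩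
    rw [map_inv₀, map_mul, ← mul_inv, mul_mul_mul_comm, hε, one_mul, inv_one]
  | more r ih _ =>
    intro _
    rcases Nat.eq_zero_or_pos r with rfl | hr
    · exact ⟨fun _ => ε⁻¹, fun _ => ⟨hinv, hne⟩, by simp [pow_two, mul_inv]⟩
    obtain ⟨f, hf, hp⟩ := ih hr
    refine ⟨Fin.cons ε (Fin.cons ε⁻¹ f), fun i => ?_, ?_⟩
    · refine Fin.cases ⟨by simpa using hε, by simpa using h1⟩ (fun i => ?_) i
      refine Fin.cases ⟨by simpa using hinv, by simpa using hne⟩ (fun i => ?_) i
      simpa using hf i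
    · rw [Fin.prod_cons, Fin.prod_cons, hp, ← mul_assoc, mul_inv_cancel₀ hε0, one_mul]

variable (P : UPair C n)

/-- A torus element of the orthogonal with an isotropic eigenvector. -/
theorem exists_tau (hn : 5 ≤ n) :
    ∃ τ : ↥(Cfsg.SU n F q), P.Diag τ 1 ∧ τ ^ (q + 1) = 1 ∧
      (∀ a ∈ P.perp, τ.1.1 *ᵥ a = a → a = 0) ∧ (∀ w ∈ P.perp, ∃ a ∈ P.perp, τ.1.1 *ᵥ a + w = a) ∧
      ∃ (w : V) (ε : F), w ∈ P.perp ∧ w ≠ 0 ∧ C.form w w = 0 ∧ ε * C.bar ε = 1 ∧ τ.1.1 *ᵥ w = ε • w := by
  classical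
  obtain ⟨u, hu, huu, hub⟩ := P.exists_basis
  obtain ⟨ε, hε, hε1, hε2⟩ := exists_weight (C := C)
  obtain ⟨f, hf, hfp⟩ := exists_weights hε hε1 hε2 (n - 4) (by omega)
  let c : Fin (n - 2) ≃ Fin (n - 4 + 1 + 1) := finCongr (by omega)
  set wt : Fin (n - 4 + 1 + 1) → F := Fin.cons ε (Fin.cons ε f) with hwt
  have hwtn : ∀ j, wt j * C.bar (wt j) = 1 ∧ wt j ≠ 1 := by
    refine Fin.cases ⟨by simpa [wt] using hε, by simpa [wt] using hε1⟩ (fun j => ?_)
    refine Fin.cases ⟨by simpa [wt] using hε, by simpa [wt] using hε1⟩ (fun j => ?_) j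
    simpa [wt] using hf j
  set μ : Fin (n - 2) → F := fun i => wt (c i) with hμ
  have hμn : ∀ i, μ i * C.bar (μ i) = 1 ∧ μ i ≠ 1 := fun i => hwtn (c i)
  have hμp : ∏ i, μ i = 1 := by
    rw [show ∏ i, μ i = ∏ j, wt j from c.prod_comp wt, hwt, Fin.prod_cons, Fin.prod_cons, hfp, ← mul_assoc,
      mul_inv_cancel₀ (mul_ne_zero (left_ne_zero_of_mul_eq_one hε) (left_ne_zero_of_mul_eq_one hε))]
  -- products of reflections
  have key : ∀ s : Finset (Fin (n - 2)), ∃ A : Matrix (Fin n) (Fin n) F, A.det = ∏ i ∈ s, μ i ∧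
      (∀ a b, C.form (A *ᵥ a) (A *ᵥ b) = C.form a b) ∧
      ∀ x, A *ᵥ x = x + ∑ i ∈ s, ((μ i - 1) * C.form x (u i)) • u i := by
    intro s
    induction s using Finset.induction_on with
    | empty => exact ⟨1, by simp, fun a b => by rw [Matrix.one_mulVec, Matrix.one_mulVec], fun x => by simp⟩
    | @insert j s hj ih =>
      obtain ⟨A, hA1, hA2, hA3⟩ := ih
      refine ⟨C.rmap (u j) (u j) (μ j - 1) * A, ?_, fun a b => ?_, fun x => ?_⟩
      · rw [Matrix.det_mul, C.det_rmap, huu, if_pos rfl, hA1, Finset.prod_insert hj]; ring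
      · rw [← Matrix.mulVec_mulVec, ← Matrix.mulVec_mulVec, ← hA2 a b]
        simp only [C.rmap_mulVec, C.form_add_left, C.form_add_right, C.form_smul_left, C.form_smul_right,
          huu, if_true, map_mul, map_sub, map_one, C.bar_form]
        linear_combination (C.form (A *ᵥ a) (u j) * C.form (u j) (A *ᵥ b)) * (hμn j).1
      · have hz : C.form (∑ i ∈ s, ((μ i - 1) * C.form x (u i)) • u i) (u j) = 0 := by
          rw [C.form_sum_left]
          refine Finset.sum_eq_zero fun i hi => ?_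
          rw [C.form_smul_left, huu, if_neg (fun h => hj (by rw [← h]; exact hi)), mul_zero]
        rw [← Matrix.mulVec_mulVec, C.rmap_mulVec, hA3, Finset.sum_insert hj, C.form_add_left, hz, add_zero]
        abel
  obtain ⟨A, hA1, hA2, hA3⟩ := key Finset.univ
  have hcoord : ∀ (g : Fin (n - 2) → F) j, C.form (∑ i, g i • u i) (u j) = g j := fun g j => by
    rw [C.form_sum_left]
    simp [C.form_smul_left, huu]
  set τ := C.mkSU A (by rw [hA1, hμp]) hA2 with hτ
  have hτv : ∀ x, τ.1.1 *ᵥ x = x + ∑ i, ((μ i - 1) * C.form x (u i)) • u i := hA3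
  have hτu : ∀ j, τ.1.1 *ᵥ u j = μ j • u j := fun j => by
    rw [hτv, Finset.sum_eq_single j (fun i _ hi => by rw [huu, if_neg (Ne.symm hi), mul_zero, zero_smul])
      (fun h => absurd (Finset.mem_univ j) h), huu, if_pos rfl, mul_one, sub_smul, one_smul, add_sub_cancel]
  have hpow : ∀ (j : ℕ) x, (τ ^ j).1.1 *ᵥ x = x + ∑ i, ((μ i ^ j - 1) * C.form x (u i)) • u i := by
    intro j
    induction j with
    | zero => intro x; rw [pow_zero, su_one_mulVec]; simp
    | succ j ih =>
      intro x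
      rw [pow_succ', suMat_mulVec_mul, ih, hτv, add_assoc, ← Finset.sum_add_distrib]
      congr 1
      refine Finset.sum_congr rfl fun i _ => ?_
      rw [C.form_add_left, hcoord, ← add_smul]
      congr 1
      ring
  refine ⟨τ, ⟨?_, ?_⟩, ?_, fun a ha hfix => ?_, fun w hw => ?_, ?_⟩
  · rw [hτv, Finset.sum_eq_zero (fun i _ => by rw [C.form_swap_zero (hu i).1, mul_zero, zero_smul]), add_zero,
      one_smul]
  · rw [hτv, Finset.sum_eq_zero (fun i _ => by rw [C.form_swap_zero (hu i).2, mul_zero, zero_smul]), add_zero,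
      map_one, inv_one, one_smul]
  · refine su_ext fun x => ?_
    rw [hpow, su_one_mulVec, Finset.sum_eq_zero (fun i _ => ?_), add_zero]
    rw [pow_succ, ← C.bar_eq, mul_comm (C.bar _), (hμn i).1, sub_self, zero_mul, zero_smul]
  · rw [hτv, add_eq_left] at hfix
    rw [hub a ha]
    refine Finset.sum_eq_zero fun i _ => ?_
    have := hcoord (fun i => (μ i - 1) * C.form a (u i)) i
    rw [hfix, C.form_zero_left] at this
    rw [(mul_eq_zero.1 this.symm).resolve_left (sub_ne_zero.2 (hμn i).2), zero_smul]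
  · refine ⟨∑ i, (C.form w (u i) / (1 - μ i)) • u i, P.perp.sum_mem fun i _ => P.perp.smul_mem _ (hu i), ?_⟩
    conv_lhs => enter [2]; rw [hub w hw]
    rw [hτv]
    rw [add_assoc, ← Finset.sum_add_distrib, add_eq_left]
    refine Finset.sum_eq_zero fun i _ => ?_
    rw [hcoord, ← add_smul]
    have hne : (1 : F) - μ i ≠ 0 := sub_ne_zero.2 (Ne.symm (hμn i).2)
    rw [show (μ i - 1) * (C.form w (u i) / (1 - μ i)) + C.form w (u i) = 0 by field_simp; ring, zero_smul]
  · set i₀ := c.symm 0 with hi0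
    set i₁ := c.symm 1 with hi1
    have h01 : i₀ ≠ i₁ := fun h => by simpa using c.symm.injective h
    obtain ⟨z, hz⟩ := C.exists_norm (c := (-1 : F)) (by rw [map_neg, map_one])
    have hμ0 : μ i₀ = ε := by simp [μ, i₀, wt]
    have hμ1 : μ i₁ = ε := by
      show wt (c (c.symm 1)) = ε
      rw [Equiv.apply_symm_apply, hwt]
      rfl
    refine ⟨u i₀ + z • u i₁, ε, P.perp.add_mem (hu _) (P.perp.smul_mem _ (hu _)), fun h => ?_, ?_, hε, ?_⟩
    · have := congrArg (fun v => C.form v (u i₀)) h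
      simp [C.form_add_left, C.form_smul_left, huu, h01.symm, C.form_zero_left] at this
    · simp [C.form_add_left, C.form_add_right, C.form_smul_left, C.form_smul_right, huu, h01, h01.symm]
      linear_combination hz
    · rw [Matrix.mulVec_add, Matrix.mulVec_smul, hτu, hτu, hμ0, hμ1, smul_add, smul_comm]

/-- The Eichler group does not depend on the second vector of the pair. -/
theorem qel_indep {P' : UPair C n} (h : P'.e = P.e) {w : V} {t : F} (hw : Qok P' w t) :
    ∃ w₀ t₀, Qok P w₀ t₀ ∧ qel P w₀ t₀ = qel P' w t := by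
  set γ := C.form w P.f with hγ
  have hwe : C.form w P.e = 0 := h ▸ hw.1.1
  have hdec : w = γ • P.e + P.proj w := by
    conv_lhs => rw [P.decomp w, hwe, zero_smul, add_zero]
  have hq : Qok P (P.proj w) (t + γ - C.bar γ) := by
    refine ⟨P.proj_mem w, ?_⟩
    have h2 := hw.2
    rw [P.form_decomp w w, hwe] at h2
    rw [map_sub, map_add, C.bar_bar]
    simp only [map_zero, mul_zero, zero_mul, zero_add] at h2
    linear_combination h2
  refine ⟨_, _, hq, su_ext fun x => ?_⟩
  rw [qel_mulVec P hq, qel_mulVec P' hw, h]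
  conv_rhs => rw [hdec, C.form_add_right, C.form_smul_right]
  module

variable {X : Type*} [MulAction ↥(Cfsg.SU n F q) X] [Finite X]

theorem full_congr {P P' : UPair C n} (h : P'.e = P.e) {x : X} (hx : Full P x) : Full P' x := by
  intro w t hw
  obtain ⟨w₀, t₀, h0, he⟩ := qel_indep P h hw
  rw [← he]
  exact hx _ _ h0

theorem full_not_moved {x : X} (hx : Full P x) : ¬ Moved P x := by
  rintro ⟨t, ht, h⟩
  exact h (hx 0 t (qok_zero P ht))

theorem moves_unscale {z : V} {a : F} (hz : C.form z z = 0) {x : X} (h : Moves (C := C) (a • z) x) :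
    Moves (C := C) z x := by
  obtain ⟨hz', s, hs, h⟩ := h
  rw [C.tv_smul z hz a s hs] at h
  exact ⟨hz, _, _, h⟩

variable (hF : Fintype.card F = q ^ 2) (hn : 5 ≤ n) (hs : Small C n (Nat.card X))
  [MulAction.IsPretransitive ↥(Cfsg.SU n F q) X]
include hF hn hs

theorem all_moves {z : V} (hz0 : z ≠ 0) (hz : C.form z z = 0) {y : X} (hy : Moved P y) :
    ∃ y' : X, Moves (C := C) z y' ∧ ((∀ x : X, Moved P x) → ∀ x : X, Moves (C := C) z x) := by
  obtain ⟨g, a, -, hg⟩ := C.exists_move (by omega) P.e_ne_zero hz0 P.ee hz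
  have h1 : ∀ x : X, Moved P x → Moves (C := C) z (g • x) := fun x hx =>
    moves_unscale hz (hg ▸ moves_map ((moves_iff P x).2 hx) g)
  exact ⟨g • y, h1 y hy, fun hall x => smul_inv_smul g x ▸ h1 _ (hall (g⁻¹ • x))⟩

theorem exists_not_moved (hne : Nonempty X) : ∃ x : X, ¬ Moved P x := by
  classical
  by_contra hcon
  simp only [not_exists, not_not] at hcon
  obtain ⟨y₀⟩ : Nonempty X := hne
  have hall : ∀ (P' : UPair C n) (x : X), Moved P' x := fun P' x => by
    obtain ⟨-, -, h⟩ := all_moves P hF hn hs P'.e_ne_zero P'.ee (hcon y₀)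
    exact (moves_iff P' x).1 (h hcon x)
  obtain ⟨τ, hτ, hτq, hτfix, hτsolve, w, ε, hw, hw0, hww, hε, hτw⟩ := exists_tau P hn
  have hconj : ∀ {a : V} {t : F}, Qok P a t → Qok P (τ.1.1 *ᵥ a) t ∧
      τ * qel P a t = qel P (τ.1.1 *ᵥ a) t * τ := fun {a t} h => by
    obtain ⟨h1, h2⟩ := qel_conj P hτ h
    rw [map_one, one_smul, mul_one, one_mul] at h1 h2
    exact ⟨h1, by rw [← h2, inv_mul_cancel_right]⟩
  -- a point fixed by the torus element
  obtain ⟨y, hτy⟩ : ∃ y : X, τ • y = y := by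
    obtain ⟨v, t, hvt, hτy⟩ := moved_orbit P hF hn hs (hcon y₀) (hcon (τ • y₀))
    obtain ⟨a, ha, hav⟩ := hτsolve v hvt.1
    obtain ⟨s, hsa⟩ := qok_exists P ha
    obtain ⟨hq1, hq2⟩ := hconj hsa
    set δ := t - C.form v (τ.1.1 *ᵥ a) with hδ
    have h1 := qok_mul P hq1 hvt
    rw [hav] at h1
    have hδz : δ ∈ zset C := by
      have h2 := qok_diff P hsa h1
      rwa [show s + t - C.form v (τ.1.1 *ᵥ a) - s = δ by rw [hδ]; ring] at h2
    set y := qel P a s • y₀
    have hy : τ • y = qel P 0 δ • y := by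
      rw [← mul_smul, hq2, mul_smul, hτy, ← mul_smul, qel_mul P hq1 hvt, hav, ← mul_smul,
        qel_zero_mul P hsa hδz]
      congr 2
      rw [hδ]; ring
    have hcomm : τ * qel P 0 δ = qel P 0 δ * τ := by
      obtain ⟨-, h3⟩ := hconj (qok_zero P hδz)
      rwa [Matrix.mulVec_zero] at h3
    have hpow : ∀ j : ℕ, τ ^ j • y = qel P 0 ((j : F) * δ) • y := by
      intro j
      induction j with
      | zero => rw [pow_zero, one_smul, Nat.cast_zero, zero_mul, qel_zero, one_smul]
      | succ j ih =>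
        rw [pow_succ, mul_smul, hy, ← mul_smul, ((show Commute τ (qel P 0 δ) from hcomm).pow_left j).eq,
          mul_smul, ih, ← mul_smul, qel_zero_mul P (qok_zero P (zset_mul_fixed hδz (map_natCast C.bar j))) hδz]
        congr 2
        push_cast
        ring
    have h3 := hpow (q + 1)
    rw [hτq, one_smul] at h3
    have h4 := (moved_free P hF hn hs (hcon y)
      (qok_zero P (zset_mul_fixed hδz (map_natCast C.bar (q + 1)))) h3.symm).2
    have hq0 : (q : F) = 0 := by
      have h5 := Nat.cast_card_eq_zero F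
      rw [hF, Nat.cast_pow] at h5
      exact (pow_eq_zero_iff two_ne_zero).1 h5
    rw [Nat.cast_add, hq0, zero_add, Nat.cast_one, one_mul] at h4
    exact ⟨y, by rw [hy, h4, qel_zero, one_smul]⟩
  obtain ⟨r, hr0, hr⟩ := C.exists_trace_zero
  set T := C.tv w hww r hr with hT
  have hτT : τ • T • y = T • y := by
    have h1 : τ * T * τ⁻¹ = T := by
      rw [hT, C.tv_conj]
      refine (C.tv_congr (hw := by rw [C.form_smul_left, C.form_smul_right, hww, mul_zero, mul_zero]) (hs := hr)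
        hτw rfl).trans ?_
      rw [C.tv_smul w hww]
      exact C.tv_congr rfl (by rw [hε, one_mul])
    rw [← mul_smul, show τ * T = T * τ by conv_rhs => rw [← h1, inv_mul_cancel_right], mul_smul, hτy]
  obtain ⟨a, φ, haφ, hTy⟩ := moved_orbit P hF hn hs (hcon y) (hcon (T • y))
  obtain rfl : a = 0 := by
    obtain ⟨h1, h2⟩ := hconj haφ
    rw [hTy, ← mul_smul, h2, mul_smul, hτy] at hτT
    have h3 : qel P (τ.1.1 *ᵥ a) φ • y = qel P a φ • y := hτT
    rw [← inv_smul_eq_iff, ← mul_smul, qel_inv P haφ, qel_mul P (qok_neg P haφ) h1] at h3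
    exact hτfix a haφ.1 (neg_add_eq_zero.1
      (moved_free P hF hn hs (hcon y) (qok_mul P (qok_neg P haφ) h1) h3).1).symm
  have hφ : φ ∈ zset C := by
    have := haφ.2
    rwa [C.form_zero_left, add_zero] at this
  obtain ⟨Pw, hPw⟩ := uPair_exists C hw0 hww
  have hTq : T = qel Pw 0 r := by
    rw [qel_tv Pw (show r ∈ zset C from hr)]
    exact C.tv_congr hPw.symm rfl
  rcases eq_or_ne φ 0 with rfl | hφ0
  · rw [qel_zero, one_smul, hTq] at hTy
    exact hr0 (moved_free Pw hF hn hs (hall Pw y) (qok_zero Pw hr) hTy).2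
  set s := -φ with hsdef
  have hs' : s ∈ zset C := (zset C).neg_mem hφ
  have hs0 : s ≠ 0 := neg_ne_zero.2 hφ0
  obtain ⟨lam, hlam⟩ := C.exists_norm (c := -(r / s)) (by
    rw [map_neg, map_div₀, bar_zset (show r ∈ zset C from hr), bar_zset hs', neg_div_neg_eq])
  have hew : C.form P.e w = 0 := C.form_swap_zero hw.1
  let P2 : UPair C n := ⟨P.e + lam • w, P.f,
    by simp [C.form_add_left, C.form_add_right, C.form_smul_left, C.form_smul_right, P.ee, hww, hew, hw.1],
    P.ff, by rw [C.form_add_left, C.form_smul_left, P.ef, hw.2, mul_zero, add_zero]⟩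
  have hq2 : Qok P2 ((-s * lam) • w) s := by
    refine ⟨⟨?_, ?_⟩, ?_⟩
    · show C.form _ (P.e + lam • w) = 0
      simp [C.form_add_right, C.form_neg_left, C.form_smul_left, C.form_smul_right, hww, hw.1]
    · show C.form _ P.f = 0
      rw [C.form_smul_left, hw.2, mul_zero]
    · rw [C.form_smul_left, C.form_smul_right, hww, mul_zero, mul_zero, add_zero]
      exact mem_zset.1 hs'
  have hprod : qel P 0 s * T = qel P2 ((-s * lam) • w) s := by
    refine su_ext fun x => ?_
    rw [suMat_mulVec_mul, hT, C.tv_mulVec, qel_mulVec P (qok_zero P hs'), qel_mulVec P2 hq2]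
    show _ = x + C.form x (P.e + lam • w) • _ + _ • (P.e + lam • w)
    rw [show r = -s * (lam * C.bar lam) by rw [hlam]; field_simp]
    simp only [C.form_add_left, C.form_add_right, C.form_smul_left, C.form_smul_right, C.form_zero_right,
      hw.1, map_mul, map_neg, bar_zset hs', P2]
    module
  have hfix : qel P2 ((-s * lam) • w) s • y = y := by
    rw [← hprod, mul_smul, hTy, ← mul_smul, qel_zero_mul P (qok_zero P hφ) hs', hsdef, add_neg_cancel,
      qel_zero, one_smul]
  exact hs0 (moved_free P2 hF hn hs (hall P2 y) hq2 hfix).2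

theorem full_perp (hmv : ∀ P : UPair C n, ∃ y : X, Moved P y) {x : X} (hx : Full P x) (P' : UPair C n)
    (hP' : P'.e ∈ P.perp) : Full P' x := by
  obtain ⟨z, hz, hz1⟩ := exists_proj_one P hP' P'.e_ne_zero
  obtain ⟨κ, h1, h2⟩ := C.exists_partner P'.ee (y := z) (by rw [← C.bar_form, hz1, map_one])
  let R : UPair C n := ⟨P'.e, z + κ • P'.e, P'.ee, h1, h2⟩
  have hf : z + κ • P'.e ∈ P.perp := P.perp.add_mem hz (P.perp.smul_mem _ hP')
  refine full_congr (P := R) (P' := P') rfl (fixed_full hF hn hs hmv R (x := x) fun hm => ?_)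
  have hqP : Qok P P'.e 0 := ⟨hP', by rw [map_zero, P'.ee, add_zero, add_zero]⟩
  have hqR : Qok R (-P.e) 0 := by
    refine ⟨⟨?_, ?_⟩, by rw [C.form_neg_left, C.form_neg_right, P.ee, map_zero]; simp⟩
    · show C.form (-P.e) P'.e = 0
      rw [C.form_neg_left, C.form_swap_zero hP'.1, neg_zero]
    · show C.form (-P.e) (z + κ • P'.e) = 0
      rw [C.form_neg_left, C.form_swap_zero hf.1, neg_zero]
  have he : qel R (-P.e) 0 = qel P P'.e 0 := by
    refine su_ext fun v => ?_
    rw [qel_mulVec R hqR, qel_mulVec P hqP, C.form_neg_right]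
    show v + C.form v P'.e • -P.e + _ • P'.e = _
    module
  have h3 := moved_free R hF hn hs hm hqR (by rw [he]; exact hx _ _ hqP)
  exact P.e_ne_zero (neg_eq_zero.1 h3.1)

/-- A small transitive action is trivial. -/
theorem all_fix (x : X) (g : ↥(Cfsg.SU n F q)) : g • x = x := by
  classical
  have hgen : ∀ x : X, (∀ P : UPair C n, ¬ Moved P x) → ∀ g : ↥(Cfsg.SU n F q), g • x = x := by
    intro x hx g
    suffices h : ∀ g ∈ {A : ↥(Cfsg.SU n F q) | ∃ (v : Fin n → F) (c : F), Cfsg.hermForm n F q v v = 0 ∧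
        ((A : Matrix.SpecialLinearGroup (Fin n) F) : Matrix (Fin n) (Fin n) F) =
          Cfsg.unitaryTransvection n q v c}, g ∈ MulAction.stabilizer (↥(Cfsg.SU n F q)) x by
      have h1 := (Subgroup.closure_le _).2 h
      rw [CfsgLib.Perm.Trans.Unit.su_closure hF n (by omega) (by omega)] at h1
      exact h1 (Subgroup.mem_top g)
    rintro A ⟨v, c, hv, hA⟩
    rw [MulAction.mem_stabilizer_iff]
    have hAv : ∀ y, A.1.1 *ᵥ y = y + (c * C.form y v) • v := fun y => by
      rw [hA, CfsgLib.Perm.Trans.Unit.unitaryTransvection_mulVec, CfsgLib.Perm.Trans.Unit.hermForm_eq_form C]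
    rw [CfsgLib.Perm.Trans.Unit.hermForm_eq_form C] at hv
    rcases eq_or_ne v 0 with rfl | hv0
    · rw [show A = 1 from su_ext fun y => by rw [hAv, su_one_mulVec]; simp, one_smul]
    obtain ⟨y, hy⟩ := C.exists_form_eq_one hv0
    have hct : c + C.bar c = 0 := by
      have h2 := C.form_su A y y
      have hvy : C.form v y = 1 := by rw [← C.bar_form, hy, map_one]
      simp only [hAv, hy, hvy, C.form_add_left, C.form_add_right, C.form_smul_left, C.form_smul_right, hv,
        mul_one] at h2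
      linear_combination h2
    obtain ⟨P, rfl⟩ := uPair_exists C hv0 hv
    rw [show A = qel P 0 c from su_ext fun y => by
      rw [hAv, qel_mulVec P (qok_zero P hct), C.form_zero_right]; simp]
    exact fixed_zfix P (hx P) hct
  by_cases hex : ∃ (P : UPair C n) (y : X), Moved P y
  swap
  · simp only [not_exists] at hex
    exact hgen x (fun P => hex P x) g
  obtain ⟨P, y, hy⟩ := hex
  have hmv : ∀ P' : UPair C n, ∃ y : X, Moved P' y := fun P' => by
    obtain ⟨y', h, -⟩ := all_moves P hF hn hs P'.e_ne_zero P'.ee hy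
    exact ⟨y', (moves_iff P' y').1 h⟩
  obtain ⟨x₀, hx₀⟩ := exists_not_moved P hF hn hs ⟨x⟩
  have hfull := fixed_full hF hn hs hmv P hx₀
  -- the point is fixed at every orthogonal point
  have horth : ∀ (P₁ P₂ : UPair C n), Full P₁ x₀ → C.form P₂.e P₁.e = 0 →
      LinearIndependent F ![P₁.e, P₂.e] → Full P₂ x₀ := by
    intro P₁ P₂ h1 h12 hli
    obtain ⟨z, hz⟩ := exists_forms (C := C) hli ![1, 0]
    have hz0 : C.form z P₁.e = 1 := hz 0
    have hz1 : C.form z P₂.e = 0 := hz 1
    obtain ⟨κ, k1, k2⟩ := C.exists_partner P₁.ee (y := z) (by rw [← C.bar_form, hz0, map_one])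
    let R : UPair C n := ⟨P₁.e, z + κ • P₁.e, P₁.ee, k1, k2⟩
    refine full_perp R hF hn hs hmv (full_congr (P := P₁) (P' := R) rfl h1) P₂ ⟨h12, ?_⟩
    show C.form P₂.e (z + κ • P₁.e) = 0
    rw [C.form_add_right, C.form_smul_right, C.form_swap_zero hz1, h12, mul_zero, add_zero]
  have hind : ∀ u v : V, v ≠ 0 → C.form u v ≠ 0 ∨ (∀ c : F, v ≠ c • u) → u ≠ 0 → C.form u u = 0 →
      LinearIndependent F ![u, v] := by
    intro u v hv hcase hu huu
    rw [linearIndependent_fin2]
    simp only [Matrix.cons_val_one, Matrix.cons_val_zero]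
    refine ⟨hv, fun c hc => ?_⟩
    rcases eq_or_ne c 0 with rfl | hc0
    · rw [zero_smul] at hc; exact hu hc.symm
    have hvu : v = c⁻¹ • u := by rw [← hc, smul_smul, inv_mul_cancel₀ hc0, one_smul]
    rcases hcase with h | h
    · exact h (by rw [hvu, C.form_smul_right, huu, mul_zero])
    · exact h _ hvu
  have hall : ∀ P' : UPair C n, ¬ Moved P' x₀ := by
    intro P' hm
    by_cases hpar : ∃ c : F, P'.e = c • P.e
    · obtain ⟨c, hc⟩ := hpar
      have h1 := (moves_iff P' x₀).2 hm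
      rw [hc] at h1
      exact hx₀ ((moves_iff P x₀).1 (moves_unscale P.ee h1))
    simp only [not_exists] at hpar
    refine full_not_moved P' ?_ hm
    by_cases h0 : C.form P'.e P.e = 0
    · exact horth P P' hfull h0 (hind _ _ P'.e_ne_zero (Or.inr hpar) P.e_ne_zero P.ee)
    -- go through a common orthogonal point
    set v := (C.bar (C.form P.e P'.e))⁻¹ • P'.e with hv
    have hne : C.form P.e P'.e ≠ 0 := fun h => h0 (C.form_swap_zero h)
    let R : UPair C n := ⟨P.e, v, P.ee, by rw [hv, C.form_smul_left, C.form_smul_right, P'.ee, mul_zero, mul_zero],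
      by rw [hv, C.form_smul_right, map_inv₀, C.bar_bar, inv_mul_cancel₀ hne]⟩
    obtain ⟨-, -, -, -, -, u, -, hu, hu0, huu, -, -⟩ := exists_tau R hn
    obtain ⟨Pu, hPu⟩ := uPair_exists C hu0 huu
    have hu1 : C.form u P'.e = 0 := by
      have h2 : C.form u v = 0 := hu.2
      rw [hv, C.form_smul_right] at h2
      exact (mul_eq_zero.1 h2).resolve_left (by simpa using hne)
    have hPuFull : Full Pu x₀ := horth P Pu hfull (by rw [hPu]; exact hu.1) (by
      rw [hPu]
      refine hind _ _ hu0 (Or.inr fun c hc => ?_) P.e_ne_zero P.ee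
      rcases eq_or_ne c 0 with rfl | hc0
      · rw [zero_smul] at hc; exact hu0 hc
      · rw [hc, C.form_smul_left] at hu1
        exact hne ((mul_eq_zero.1 hu1).resolve_left hc0))
    refine horth Pu P' hPuFull (by rw [hPu]; exact C.form_swap_zero hu1) ?_
    rw [hPu]
    refine hind _ _ P'.e_ne_zero (Or.inr fun c hc => ?_) hu0 huu
    exact h0 (by rw [hc, C.form_smul_left, hu.1, mul_zero])
  have hfix0 := hgen x₀ hall
  obtain ⟨g', rfl⟩ := MulAction.exists_smul_eq ↥(Cfsg.SU n F q) x₀ x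
  rw [hfix0, hfix0]

end CfsgLib.PGroup.UnitAll
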