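import Cfsg.Agent.Lib.PGroup.UnitAll.Arith
import Cfsg.Agent.Lib.PGroup.UnitAll.Images
import Cfsg.Agent.Lib.PGroup.UnitIndex.Triv

/-!
In a small action the points moved by a transvection form one regular orbit of the Eichler group.
-/

set_option autoImplicit false
set_option linter.unusedSectionVars false

namespace CfsgLib.PGroup.UnitAll

open Matrix Module CfsgLib.SU CfsgLib.Classical CfsgLib.Classical.HermIsoCount CfsgLib.PGroup.UnitIndex

variable {F : Type*} [Field F] [Fintype F] {q : ℕ} {C : UCtx F q} {n : ℕ} (P : UPair C n)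

local notation "V" => (Fin n → F)

theorem card_perp_eq (hF : Fintype.card F = q ^ 2) : Nat.card P.perp = q ^ (2 * (n - 2)) := by
  rw [natCard_perp, hF, pow_mul]

theorem card_le_qk (hF : Fintype.card F = q ^ 2) {μ : F} (hμ : μ ∈ zset C) (hμ0 : μ ≠ 0) {U : AddSubgroup V}
    (hU : ∀ a ∈ U, a ∈ P.perp) (hiso : ∀ a ∈ U, ∀ b ∈ U, chi F (μ * (C.form a b - C.form b a)) = 1) :
    Nat.card U ≤ q ^ (n - 2) := by
  have h := (altP C n μ).sq_le (altP_nd P.perp (fun w hw hw0 => perp_sep P hw hw0) hμ hμ0) (S := U)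
    (fun a ha => hU a ha) hiso
  rw [show Nat.card P.perp.toAddSubgroup = q ^ (2 * (n - 2)) from card_perp_eq P hF, two_mul, pow_add] at h
  exact Nat.mul_self_le_mul_self_iff.1 h

/-- Totally isotropic groups in odd dimension. -/
theorem card_ts_odd (hF : Fintype.card F = q ^ 2) (hk : Odd (n - 2)) {U : AddSubgroup V}
    (hU : ∀ a ∈ U, a ∈ P.perp) (h0 : ∀ u ∈ U, ∀ v ∈ U, C.form u v = 0) :
    Nat.card U ≤ q ^ (n - 2 - 1) := by
  set M := Submodule.span F (U : Set V) with hM
  have hts : ∀ x ∈ M, ∀ z ∈ M, C.form x z = 0 := by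
    intro x hx z hz
    induction hx using Submodule.span_induction with
    | zero => exact C.form_zero_left _
    | add u v _ _ h h' => rw [C.form_add_left, h, h', add_zero]
    | smul c u _ h => rw [C.form_smul_left, h, mul_zero]
    | mem u hu =>
      induction hz using Submodule.span_induction with
      | zero => exact C.form_zero_right _
      | add v w _ _ h h' => rw [C.form_add_right, h, h', add_zero]
      | smul c v _ h => rw [C.form_smul_right, h, mul_zero]
      | mem v hv => exact h0 u hu v hv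
  have hdim := ts_finrank P (M := M) (Submodule.span_le.2 fun a ha => hU a ha) hts
  obtain ⟨a, ha⟩ := hk
  refine le_trans (Nat.card_le_card_of_injective (fun u : U => (⟨u.1, Submodule.subset_span u.2⟩ : M))
    fun u v h => Subtype.ext (congrArg Subtype.val h :)) ?_
  rw [Module.natCard_eq_pow_finrank (K := F), Nat.card_eq_fintype_card, hF, ← pow_mul]
  exact Nat.pow_le_pow_right (Nat.pos_of_ne_zero C.q_ne_zero) (by omega)

/-- A large group has two independent vectors. -/
theorem exists_indep (hF : Fintype.card F = q ^ 2) {U : AddSubgroup V} (hU : q ^ 2 < Nat.card U) {a : V}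
    (ha0 : a ≠ 0) : ∃ b ∈ U, LinearIndependent F ![a, b] := by
  classical
  by_contra hcon
  simp only [not_exists, not_and] at hcon
  have hline : ∀ b : U, ∃ c : F, b.1 = c • a := fun b => by
    by_contra hne
    refine hcon b.1 b.2 ?_
    rw [linearIndependent_fin2]
    simp only [Matrix.cons_val_one, Matrix.cons_val_zero]
    refine ⟨fun h => hne ⟨0, by rw [zero_smul]; exact h⟩, fun c hc => ?_⟩
    rcases eq_or_ne c 0 with rfl | hc0
    · rw [zero_smul] at hc; exact ha0 hc.symm
    · exact hne ⟨c⁻¹, by rw [← hc, smul_smul, inv_mul_cancel₀ hc0, one_smul]⟩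
  choose c hc using hline
  have := Nat.card_le_card_of_injective c fun x y h => Subtype.ext (by rw [hc x, hc y, h])
  rw [Nat.card_eq_fintype_card (α := F), hF] at this
  omega

theorem ncard_split (U : AddSubgroup V) :
    {v | v ∈ U ∧ v ≠ 0 ∧ C.form v v = 0}.ncard + {v | v ∈ U ∧ C.form v v ≠ 0}.ncard ≤ Nat.card U - 1 := by
  rw [← Set.ncard_union_eq (Set.disjoint_left.2 fun x hx hx' => hx'.2 hx.2.2) (Set.toFinite _) (Set.toFinite _),
    show Nat.card U = (U : Set V).ncard from Nat.card_coe_set_eq _,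
    ← Set.ncard_sdiff_singleton_of_mem (show (0 : V) ∈ (U : Set V) from U.zero_mem)]
  refine Set.ncard_le_ncard ?_ (Set.toFinite _)
  rintro x (hx | hx)
  · exact ⟨hx.1, hx.2.1⟩
  · exact ⟨hx.1, fun h : x = 0 => hx.2 (by rw [h, C.form_zero_left])⟩

/-- A lower bound for the number of vectors of given norm. -/
theorem sph_ge (hF : Fintype.card F = q ^ 2) (hn : 5 ≤ n) {c : F} (hc : C.bar c = c) :
    q ^ (2 * (n - 2) - 1) ≤ (sph P c \ {0}).ncard + q ^ (n - 2) := by
  rcases eq_or_ne c 0 with rfl | hc0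
  · rw [sph_iso P hF (by omega)]
    exact isoCount_lower hF (by omega)
  · rw [sph_aniso P hc hc0]
    exact (hcount_one_lower hF (by omega)).trans (Nat.add_le_add_left
      (Nat.pow_le_pow_right (Nat.pos_of_ne_zero C.q_ne_zero) (Nat.sub_le _ _)) _)

variable {X : Type*} [MulAction ↥(Cfsg.SU n F q) X] [Finite X] (hF : Fintype.card F = q ^ 2) (hn : 5 ≤ n)
  (hs : Small C n (Nat.card X))
include hF hn hs

theorem imgs_subset_fibre {y : X} {μ : F} (hμ : μ ∈ ann P y) :
    imgs P (wstab P y) ⊆ fibre P y μ := by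
  rintro S ⟨g, hg, rfl⟩
  refine Eq.subst (motive := fun S => S ∈ fibre P y μ) (le_antisymm ?_ ?_) (exists_smul_mem_fibre P hμ hg)
  · intro v hv
    have h5 := wstab_levi_le P (diag_inv P hg) hv
    rw [inv_smul_smul, inv_one, map_one, one_smul] at h5
    exact ⟨_, h5, su_mulVec_inv g v⟩
  · rintro _ ⟨w, hw, rfl⟩
    have h5 := wstab_levi_le P hg hw
    rwa [map_one, one_smul] at h5

/-- A moved point has a trivial stabiliser in the Eichler group. -/
theorem moved_data {y : X} (hy : Moved P y) :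
    (∀ w, w ∈ wstab P y → w = 0) ∧ ∀ t, t ∈ zfix P y → t = 0 := by
  classical
  haveI : Finite (AddSubgroup V) :=
    Finite.of_injective (fun H : AddSubgroup V => (H : Set V)) SetLike.coe_injective
  obtain ⟨t₀, ht₀, hy⟩ := hy
  obtain ⟨μ, hμ, hμ0⟩ := exists_ann P ht₀ hy
  set U := wstab P y with hUdef
  obtain ⟨k, hk3, rfl⟩ : ∃ k, 3 ≤ k ∧ n = k + 2 := ⟨n - 2, by omega, by omega⟩
  have hk2 : k + 2 - 2 = k := Nat.add_sub_cancel k 2
  have hq := q_ge_two hF
  have hUp : ∀ a ∈ U, a ∈ P.perp := fun a ha => wstab_le P ha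
  have hiso : ∀ a ∈ U, ∀ b ∈ U, chi F (μ * (C.form a b - C.form b a)) = 1 := fun a ha b hb =>
    hμ.2 _ (comm_mem_zfix P ha hb)
  have hu : Nat.card U ≤ q ^ k := by have := card_le_qk P hF hμ.1 hμ0 hUp hiso; rwa [hk2] at this
  have hd := data_bound P hF (by omega) (y := y) hμ.1 hμ0
  rw [card_perp_eq P hF, hk2] at hd
  have hX : q ^ (2 * k + 1) * (imgs P U).ncard ≤ Nat.card X * Nat.card U := by
    refine Nat.le_of_mul_le_mul_left (c := q - 1) ?_ (by omega)
    refine le_trans ?_ (hd.trans (Nat.mul_le_mul_right _ (Nat.sub_le_sub_left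
      (show 1 ≤ Nat.card (zfix P y) from Nat.card_pos) _)))
    rw [pow_succ' q (2 * k)]
    exact Nat.mul_le_mul_left _ (Nat.mul_le_mul_left _
      (Set.ncard_le_ncard (imgs_subset_fibre P hF hn hs hμ) (Set.toFinite _)))
  have hU : ∀ w, w ∈ U → w = 0 := by
    by_contra hcon
    simp only [not_forall] at hcon
    obtain ⟨a₁, ha₁, ha₁0⟩ := hcon
    by_cases hsmall : Nat.card U ≤ q ^ (k - 1)
    · have h1 := cover_one P hn hUp ha₁ ha₁0
      have h2 := sph_ge P hF hn (C.form_self_fixed a₁)
      rw [hk2] at h2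
      exact small_one hF rfl hk3 hs h2 h1 hX hsmall
    rw [not_le] at hsmall
    have hbig : q ^ 2 < Nat.card U :=
      lt_of_le_of_lt (Nat.pow_le_pow_right (by omega) (by omega)) hsmall
    obtain ⟨a, ha, ha0, haa⟩ := exists_isotropic_mem C hF U hbig
    have hI : (sph P 0 \ {0}).ncard = isoCount C k := by rw [sph_iso P hF (by omega), hk2]
    set i := {v | v ∈ U ∧ v ≠ 0 ∧ C.form v v = 0}.ncard with hi
    set r := {v | v ∈ U ∧ C.form v v ≠ 0}.ncard with hr
    have hir : i + r ≤ Nat.card U - 1 := ncard_split U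
    have hiK : isoCount C k ≤ (imgs P U).ncard * i := hI ▸ cover_iso P hn hUp ha ha0 haa
    by_cases hmix : ∃ b ∈ U, C.form b b ≠ 0
    swap
    · simp only [not_exists, not_and, not_not] at hmix
      by_cases hk4 : 4 ≤ k
      swap
      · have := all_iso_three P hF (show k + 2 - 2 = 3 by omega) hUp hmix
        omega
      by_cases h0 : ∀ u ∈ U, ∀ v ∈ U, C.form u v = 0
      · obtain ⟨b, hb, hab⟩ := exists_indep hF hbig ha0
        by_cases he : Even k
        · have h1 := cover_planes P hn hUp hF ha hb hab h0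
          rw [isoPairs_ncard P (by omega), hF, hk2, show k + 2 - 4 = k - 2 by omega] at h1
          exact small_planes hF rfl hk3 hs hX hu hk4 he h1
        · have := card_ts_odd P hF (by rw [hk2]; exact Nat.not_even_iff_odd.1 he) hUp h0
          rw [hk2] at this
          omega
      · simp only [not_forall] at h0
        obtain ⟨b, hb, c, hc, hbc⟩ := h0
        have h1 := cover_iso_gram P hn hUp (by omega) hc (hmix c hc) hb (hmix b hb) hbc
          (T3 := q ^ (2 * k - 3)) (fun x hx => by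
            have := slice_lower_iso P hF (by omega) hx.1.1 hx.2 hx.1.2 hbc (γ := (0 : F)) (map_zero _)
            rwa [hk2] at this)
        rw [hI] at h1
        exact small_gram hF rfl hk3 hs hX hu hk4 h1
    obtain ⟨b₀, hb₀, hbb₀⟩ := hmix
    have hB : ∀ z ∈ U, C.form z z ≠ 0 → {x | x ∈ U ∧ C.form x z = 0}.ncard ≤ q ^ (k - 1) := by
      intro z hz hzz
      have := card_orth_le P hF (by omega) hμ.1 hμ0 hUp hiso (hUp z hz) hzz
      rwa [hk2] at this
    have hsum : ∀ T3 T : ℕ, T ≤ T3 + q ^ (k - 1) →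
        isoCount C k * T3 ≤ (imgs P U).ncard * (r * q ^ (k - 1)) →
        isoCount C k * T ≤ (imgs P U).ncard * (q ^ (k - 1) * (Nat.card U - 1)) := fun T3 T hT h1 => by
      calc isoCount C k * T ≤ isoCount C k * T3 + isoCount C k * q ^ (k - 1) := by
            rw [← mul_add]; exact Nat.mul_le_mul_left _ hT
        _ ≤ (imgs P U).ncard * (r * q ^ (k - 1)) + (imgs P U).ncard * i * q ^ (k - 1) :=
            Nat.add_le_add h1 (Nat.mul_le_mul_right _ hiK)
        _ = (imgs P U).ncard * (q ^ (k - 1) * (i + r)) := by ring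
        _ ≤ _ := Nat.mul_le_mul_left _ (Nat.mul_le_mul_left _ hir)
    by_cases hk4 : 4 ≤ k
    · have h1 := cover_mixed P hn hUp ha ha0 haa hb₀ hbb₀ (Or.inr (by omega)) hB
        (T3 := q ^ (2 * k - 3) - q ^ (k - 1)) (fun x hx => by
          by_cases hβ : C.form b₀ a = 0
          · rw [hβ]
            have h1 := slice_iso_zero P hF hn hx.1.1 hx.2 hx.1.2 (C.form_self_fixed b₀) hbb₀
            have h2 := Nat.mul_le_mul_left (q ^ 2) (hcount_one_lower (C := C) hF (show 1 ≤ k + 2 - 4 by omega))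
            rw [mul_add, ← pow_add, ← pow_add, show 2 + (2 * (k + 2 - 4) - 1) = 2 * k - 3 by omega,
              show 2 + (k + 2 - 4 - 1) = k - 1 by omega] at h2
            omega
          · have := slice_lower_iso P hF (by omega) hx.1.1 hx.2 hx.1.2 hβ (C.form_self_fixed b₀)
            rw [hk2] at this
            omega)
      rw [hI] at h1
      exact small_mixed hF rfl hk3 hs hX hu hk4 (hsum _ _ (by omega) h1)
    obtain rfl : k = 3 := by omega
    by_cases hpair : ∃ v ∈ U, v ≠ 0 ∧ C.form v v = 0 ∧ ∃ b ∈ U, C.form b b ≠ 0 ∧ C.form b v ≠ 0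
    · obtain ⟨v, hv, hv0, hvv, b, hb, hbb, hbv⟩ := hpair
      have h1 := cover_mixed P hn hUp hv hv0 hvv hb hbb (Or.inl hbv) hB (T3 := q ^ 3)
        (fun x hx => slice_lower_iso P hF (by omega) hx.1.1 hx.2 hx.1.2 hbv (C.form_self_fixed b))
      rw [hI] at h1
      exact small_three hF rfl hs hX hu rfl (hsum (q ^ 3) (q ^ 3 + q ^ 2) le_rfl h1)
    simp only [not_exists, not_and, not_not] at hpair
    have hline : ∀ v ∈ U, C.form v v = 0 → ∃ d : F, v = d • a := by
      intro v hv hvv
      rcases eq_or_ne v 0 with rfl | hv0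
      · exact ⟨0, (zero_smul _ _).symm⟩
      have hba := hpair a ha ha0 haa b₀ hb₀ hbb₀
      have hsum2 : C.form (a + b₀) (a + b₀) = C.form b₀ b₀ := by
        rw [C.form_add_left, C.form_add_right, C.form_add_right, haa, hba, C.form_swap_zero hba]
        ring
      have h1 := hpair v hv hv0 hvv (a + b₀) (U.add_mem ha hb₀) (by rw [hsum2]; exact hbb₀)
      rw [C.form_add_left, hpair v hv hv0 hvv b₀ hb₀ hbb₀, add_zero] at h1
      by_contra hne
      have hli : LinearIndependent F ![a, v] := by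
        rw [linearIndependent_fin2]
        simp only [Matrix.cons_val_one, Matrix.cons_val_zero]
        refine ⟨hv0, fun c hc => ?_⟩
        rcases eq_or_ne c 0 with rfl | hc0
        · rw [zero_smul] at hc; exact ha0 hc.symm
        · exact hne ⟨c⁻¹, by rw [← hc, smul_smul, inv_mul_cancel₀ hc0, one_smul]⟩
      set M := Submodule.span F (Set.range ![a, v]) with hM
      have h2 := ts_finrank P (M := M) (Submodule.span_le.2 (by
        rintro _ ⟨j, rfl⟩; fin_cases j <;> [exact hUp a ha; exact hUp v hv])) (by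
        intro x hx z hz
        obtain ⟨c, rfl⟩ := (Submodule.mem_span_range_iff_exists_fun F).1 hx
        obtain ⟨d, rfl⟩ := (Submodule.mem_span_range_iff_exists_fun F).1 hz
        simp [Fin.sum_univ_two, C.form_add_left, C.form_add_right, C.form_smul_left, C.form_smul_right,
          haa, hvv, h1, C.form_swap_zero h1])
      rw [hM, finrank_span_eq_card hli, Fintype.card_fin] at h2
      omega
    have h1 := cover_line P hn hUp ha ha0 haa hb₀ hbb₀ (hpair a ha ha0 haa b₀ hb₀ hbb₀) hline
      (T3 := q ^ 3 + q ^ 2) (fun x hx => by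
        have h1 := slice_iso_zero P hF hn hx.1.1 hx.2 hx.1.2 (C.form_self_fixed b₀) hbb₀
        have h2 : hcount C 1 1 = q + 1 := by
          zify
          rw [hcount_int hF le_rfl]
          ring
        rw [show (3 + 2 - 4 : ℕ) = 1 from rfl, h2] at h1
        exact le_trans (le_of_eq (by ring)) h1)
    rw [hI, hF] at h1
    refine small_three hF rfl hs hX hu rfl (h1.trans (Nat.mul_le_mul_left _ ?_))
    rw [mul_comm (q ^ 2) (Nat.card U - 1)]
    exact Nat.mul_le_mul (le_trans (Nat.le_add_left _ _) hir) (Nat.sub_le _ _)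
  refine ⟨hU, ?_⟩
  by_contra hcon
  simp only [not_forall] at hcon
  obtain ⟨t, ht, ht0⟩ := hcon
  have hb2 : 2 ≤ Nat.card (zfix P y) := by
    haveI : Nontrivial (zfix P y) :=
      ⟨⟨⟨t, ht⟩, ⟨0, (zfix P y).zero_mem⟩, fun h => ht0 (congrArg Subtype.val h)⟩⟩
    exact Finite.one_lt_card
  have ha1 : Nat.card U = 1 := by
    haveI : Unique U := ⟨⟨0⟩, fun w => Subtype.ext (hU w.1 w.2)⟩
    exact Nat.card_unique
  rw [← hUdef, ha1, mul_one] at hd
  refine small_not_fix hF rfl hk3 hs (le_trans ?_ (hd.trans (Nat.mul_le_mul_right _ (by omega))))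
  rw [pow_succ' q (2 * k)]
  exact Nat.mul_le_mul_left _ (Nat.le_mul_of_pos_right _
    ((Set.ncard_pos (Set.toFinite _)).2 ⟨_, mem_fibre_self P hμ⟩))

theorem moved_free {y : X} (hy : Moved P y) {w : V} {t : F} (h : Qok P w t) (hfix : qel P w t • y = y) :
    w = 0 ∧ t = 0 := by
  obtain ⟨h1, h2⟩ := moved_data P hF hn hs hy
  obtain rfl := h1 w ⟨t, h, hfix⟩
  exact ⟨rfl, h2 t ⟨by have := h.2; rwa [C.form_zero_left, add_zero] at this, hfix⟩⟩

omit hs in
theorem card_eich : Nat.card (P.perp × zset C) = q ^ (2 * (n - 2) + 1) := by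
  rw [Nat.card_prod, card_perp_eq P hF, card_zset hF, pow_succ]

/-- The parameters act injectively on a moved point. -/
theorem exists_orbit_map {y : X} (hy : Moved P y) :
    ∃ φ : P.perp × zset C → X, Function.Injective φ ∧
      ∀ p, ∃ w t, Qok P w t ∧ φ p = qel P w t • y := by
  choose τ hτ using fun w : P.perp => qok_exists P w.2
  have hok : ∀ p : P.perp × zset C, Qok P p.1.1 (τ p.1 + p.2.1) := fun p =>
    ⟨p.1.2, by rw [map_add]; linear_combination (hτ p.1).2 + mem_zset.1 p.2.2⟩
  refine ⟨fun p => qel P p.1.1 (τ p.1 + p.2.1) • y, fun p p' h => ?_, fun p => ⟨_, _, hok p, rfl⟩⟩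
  have h1 : qel P p'.1.1 (τ p'.1 + p'.2.1) • y = qel P p.1.1 (τ p.1 + p.2.1) • y := h.symm
  rw [← inv_smul_eq_iff, ← mul_smul, qel_inv P (hok p),
    qel_mul P (qok_neg P (hok p)) (hok p')] at h1
  obtain ⟨h2, h3⟩ := moved_free P hF hn hs hy (qok_mul P (qok_neg P (hok p)) (hok p')) h1
  obtain ⟨w, t⟩ := p
  obtain ⟨w', t'⟩ := p'
  obtain rfl : w = w' := Subtype.ext (neg_add_eq_zero.1 h2)
  obtain rfl : t = t' := Subtype.ext (by
    have h4 := (hok (w, t)).2
    rw [C.form_neg_right, sub_neg_eq_add, map_add] at h3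
    rw [map_add] at h4
    linear_combination h4 - h3)
  rfl

/-- The moved points form one orbit of the Eichler group. -/
theorem moved_orbit {y z : X} (hy : Moved P y) (hz : Moved P z) :
    ∃ w t, Qok P w t ∧ z = qel P w t • y := by
  classical
  obtain ⟨f, hf, hfy⟩ := exists_orbit_map P hF hn hs hy
  obtain ⟨g, hg, hgz⟩ := exists_orbit_map P hF hn hs hz
  obtain ⟨p, p', hpp⟩ : ∃ p p', f p = g p' := by
    by_contra hcon
    simp only [not_exists] at hcon
    have h1 := Nat.card_le_card_of_injective (Sum.elim f g)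
      (Function.Injective.sumElim hf hg hcon)
    rw [Nat.card_sum, card_eich P hF hn] at h1
    have h2 := small_lt hF (show n = (n - 2) + 2 by omega) (show 3 ≤ n - 2 by omega) hs
    omega
  obtain ⟨w, t, h, hp⟩ := hfy p
  obtain ⟨w', t', h', hp'⟩ := hgz p'
  refine ⟨_, _, qok_mul P (qok_neg P h') h, ?_⟩
  rw [← qel_mul P (qok_neg P h') h, ← qel_inv P h', mul_smul, ← hp, hpp, hp', inv_smul_smul]

end CfsgLib.PGroup.UnitAll
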