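import Cfsg.Agent.Lib.PGroup.UnitIndex.Dichotomy
import Cfsg.Agent.Lib.PGroup.UnitAll.Iso

/-!
Annihilators for pairings with values in the field, and bounds for isotropic additive groups.
-/

set_option autoImplicit false
set_option linter.unusedSectionVars false

namespace CfsgLib.PGroup.UnitAll

open Module CfsgLib.SU CfsgLib.PGroup.UnitIndex

variable {F : Type*} [Field F] [Fintype F] {q : ℕ} {C : UCtx F q} {n : ℕ}

local notation "V" => (Fin n → F)

/-- A pairing of vectors. -/
structure Pairing (F : Type*) [Field F] (n : ℕ) where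
  g : (Fin n → F) → (Fin n → F) → F
  addl : ∀ a b v, g (a + b) v = g a v + g b v
  addr : ∀ a v w, g a (v + w) = g a v + g a w

namespace Pairing

variable (π : Pairing F n)

theorem zero_left (v : V) : π.g 0 v = 0 := by
  have := π.addl 0 0 v
  rwa [add_zero, left_eq_add] at this

theorem zero_right (v : V) : π.g v 0 = 0 := by
  have := π.addr v 0 0
  rwa [add_zero, left_eq_add] at this

/-- The vectors of a group annihilating a subgroup. -/
def annih (W S : AddSubgroup (Fin n → F)) : AddSubgroup (Fin n → F) where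
  carrier := {d | d ∈ W ∧ ∀ v ∈ S, chi F (π.g d v) = 1}
  zero_mem' := ⟨W.zero_mem, fun v _ => by rw [π.zero_left, AddChar.map_zero_eq_one]⟩
  add_mem' := fun {a b} ha hb => ⟨W.add_mem ha.1 hb.1, fun v hv => by
    rw [π.addl, AddChar.map_add_eq_mul, ha.2 v hv, hb.2 v hv, one_mul]⟩
  neg_mem' := fun {a} ha => ⟨W.neg_mem ha.1, fun v hv => by
    have h := congrArg (chi F) (π.addl a (-a) v)
    rw [add_neg_cancel, π.zero_left, AddChar.map_add_eq_mul, ha.2 v hv, one_mul, AddChar.map_zero_eq_one] at h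
    exact h.symm⟩

theorem mem_annih {W S : AddSubgroup V} {d : V} :
    d ∈ π.annih W S ↔ d ∈ W ∧ ∀ v ∈ S, chi F (π.g d v) = 1 := Iff.rfl

/-- The character given by a vector. -/
noncomputable def char (W : AddSubgroup (Fin n → F)) (a : Fin n → F) : AddChar W ℂ where
  toFun v := chi F (π.g a v.1)
  map_zero_eq_one' := by
    show chi F (π.g a 0) = 1
    rw [π.zero_right, AddChar.map_zero_eq_one]
  map_add_eq_mul' v v' := by
    show chi F (π.g a (v.1 + v'.1)) = _
    rw [π.addr, AddChar.map_add_eq_mul]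

/-- The pairing is non-degenerate on a group. -/
def Nd (W : AddSubgroup (Fin n → F)) : Prop :=
  ∀ w ∈ W, (∀ v ∈ W, chi F (π.g w v) = 1) → w = 0

theorem char_injOn {W : AddSubgroup V} (h : π.Nd W) : Set.InjOn (π.char W) (W : Set V) := by
  intro a ha b hb hab
  rw [← sub_eq_zero]
  refine h _ (W.sub_mem ha hb) fun v hv => ?_
  have h1 : chi F (π.g a v) = chi F (π.g b v) := DFunLike.congr_fun hab ⟨v, hv⟩
  have h2 := π.addl (a - b) b v
  rw [sub_add_cancel] at h2
  rw [h2, AddChar.map_add_eq_mul] at h1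
  exact (mul_eq_right₀ (AddChar.val_isUnit _ _).ne_zero).1 h1

theorem card_annih {W S : AddSubgroup V} (h : π.Nd W) (hS : S ≤ W) :
    Nat.card (π.annih W S) * Nat.card S ≤ Nat.card W := by
  have h1 := card_ann_le (S.addSubgroupOf W) (π.char W '' (π.annih W S : Set V)) (by
    rintro _ ⟨d, hd, rfl⟩ v hv
    exact hd.2 v.1 hv)
  rwa [((π.char_injOn h).mono fun d hd => hd.1).ncard_image, ← Nat.card_coe_set_eq,
    Nat.card_congr (AddSubgroup.addSubgroupOfEquivOfLe hS).toEquiv] at h1

/-- A self-annihilating subgroup has at most square root size. -/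
theorem sq_le {W S : AddSubgroup V} (h : π.Nd W) (hS : S ≤ W)
    (hiso : ∀ a ∈ S, ∀ b ∈ S, chi F (π.g a b) = 1) : Nat.card S * Nat.card S ≤ Nat.card W := by
  refine le_trans (Nat.mul_le_mul_right _ ?_) (π.card_annih h hS)
  exact Nat.card_le_card_of_injective (fun a : S => (⟨a.1, hS a.2, hiso a.1 a.2⟩ : π.annih W S))
    fun a b hab => Subtype.ext (congrArg Subtype.val hab :)

theorem exists_annih_ne {W S : AddSubgroup V} (h : π.Nd W) (hS : S ≤ W) (hne : ∃ w ∈ W, w ∉ S) :
    ∃ d ∈ π.annih W S, d ≠ 0 := by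
  classical
  haveI : Fintype W := Fintype.ofFinite _
  have hbij : Function.Bijective (fun a : W => π.char W a.1) :=
    (Fintype.bijective_iff_injective_and_card _).2
      ⟨fun a b e => Subtype.ext (π.char_injOn h a.2 b.2 e), AddChar.card_eq.symm⟩
  obtain ⟨w, hw, hwS⟩ := hne
  set T := S.addSubgroupOf W
  haveI : Fintype (W ⧸ T) := Fintype.ofFinite _
  have hne' : ((⟨w, hw⟩ : W) : W ⧸ T) ≠ 0 := fun e =>
    hwS ((QuotientAddGroup.eq_zero_iff (⟨w, hw⟩ : W)).1 e)
  obtain ⟨χ, hχ⟩ := (AddChar.exists_apply_ne_zero (α := W ⧸ T)).2 hne'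
  obtain ⟨d, hd⟩ := hbij.2 (χ.compAddMonoidHom (QuotientAddGroup.mk' T))
  have hev : ∀ v : W, chi F (π.g d.1 v.1) = χ (v : W ⧸ T) := fun v => DFunLike.congr_fun hd v
  refine ⟨d.1, ⟨d.2, fun v hv => ?_⟩, fun e => hχ ?_⟩
  · rw [hev ⟨v, hS hv⟩, (QuotientAddGroup.eq_zero_iff (⟨v, hS hv⟩ : W)).2 hv, AddChar.map_zero_eq_one]
  · rw [← hev, e, π.zero_left, AddChar.map_zero_eq_one]

end Pairing

/-- The commutator pairing. -/
def altP (C : UCtx F q) (n : ℕ) (μ : F) : Pairing F n where
  g a b := μ * (C.form a b - C.form b a)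
  addl a b v := by rw [C.form_add_left, C.form_add_right]; ring
  addr a v w := by rw [C.form_add_left, C.form_add_right]; ring

/-- The trace pairing. -/
def symP (C : UCtx F q) (n : ℕ) : Pairing F n where
  g a b := C.form a b + C.form b a
  addl a b v := by rw [C.form_add_left, C.form_add_right]; ring
  addr a v w := by rw [C.form_add_left, C.form_add_right]; ring

theorem symP_nd (W : Submodule F V) (hW : ∀ w ∈ W, w ≠ 0 → ∃ x ∈ W, C.form x w = 1) :
    (symP C n).Nd W.toAddSubgroup := by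
  intro w hw h
  by_contra hne
  obtain ⟨x, hx, hxw⟩ := hW w hw hne
  obtain ⟨c, hc⟩ := C.exists_trace (c := (1 : F)) (map_one _)
  refine chi_one_ne (F := F) ?_
  have h1 := h (c • x) (W.smul_mem c hx)
  have hwx : C.form w x = 1 := by rw [← C.bar_form, hxw, map_one]
  change chi F (C.form w (c • x) + C.form (c • x) w) = 1 at h1
  rwa [C.form_smul_left, C.form_smul_right, hxw, hwx, mul_one, mul_one, add_comm, hc] at h1

theorem altP_nd (W : Submodule F V) (hW : ∀ w ∈ W, w ≠ 0 → ∃ x ∈ W, C.form x w = 1) {μ : F}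
    (hμ : μ ∈ zset C) (hμ0 : μ ≠ 0) : (altP C n μ).Nd W.toAddSubgroup := by
  intro w hw h
  by_contra hne
  obtain ⟨x, hx, hxw⟩ := hW w hw hne
  have hwx : C.form w x = 1 := by rw [← C.bar_form, hxw, map_one]
  refine hμ0 (chi_separates (C := C) hμ fun t ht => ?_)
  obtain ⟨y, hy, -⟩ := C.exists_trace_ne_zero
  have hne' : C.bar y - y ≠ 0 := sub_ne_zero.2 hy
  have hcf : C.bar (t / (C.bar y - y)) = t / (C.bar y - y) := by
    rw [map_div₀, bar_zset ht, map_sub, C.bar_bar, ← neg_sub (C.bar y) y, neg_div_neg_eq]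
  have h1 := h ((t / (C.bar y - y) * y) • x) (W.smul_mem _ hx)
  change chi F (μ * (C.form w _ - C.form _ w)) = 1 at h1
  rwa [C.form_smul_left, C.form_smul_right, hxw, hwx, mul_one, mul_one, map_mul C.bar, hcf, ← mul_sub,
    div_mul_cancel₀ _ hne'] at h1

variable (P : UPair C n)

theorem perp_sep {w : V} (hw : w ∈ P.perp) (hw0 : w ≠ 0) : ∃ x ∈ P.perp, C.form x w = 1 := by
  obtain ⟨x, hx⟩ := C.exists_form_eq_one hw0
  refine ⟨P.proj x, P.proj_mem x, ?_⟩
  conv_rhs => rw [← hx, P.decomp x]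
  simp [C.form_add_left, C.form_smul_left, C.form_swap_zero hw.1, C.form_swap_zero hw.2]

/-- The orthogonal of a vector inside the orthogonal of the pair. -/
def orthIn (b : Fin n → F) : Submodule F (Fin n → F) where
  carrier := {w | w ∈ P.perp ∧ C.form w b = 0}
  add_mem' {x y} hx hy := ⟨P.perp.add_mem hx.1 hy.1, by rw [C.form_add_left, hx.2, hy.2, add_zero]⟩
  zero_mem' := ⟨P.perp.zero_mem, C.form_zero_left _⟩
  smul_mem' c x hx := ⟨P.perp.smul_mem c hx.1, by rw [C.form_smul_left, hx.2, mul_zero]⟩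

theorem mem_orthIn {b w : V} : w ∈ orthIn P b ↔ w ∈ P.perp ∧ C.form w b = 0 := Iff.rfl

theorem orthIn_sep {b : V} (hb : b ∈ P.perp) (hbb : C.form b b ≠ 0) {w : V} (hw : w ∈ orthIn P b)
    (hw0 : w ≠ 0) : ∃ x ∈ orthIn P b, C.form x w = 1 := by
  obtain ⟨x, hx, hxw⟩ := perp_sep P hw.1 hw0
  refine ⟨x - (C.form x b / C.form b b) • b, ⟨P.perp.sub_mem hx (P.perp.smul_mem _ hb), ?_⟩, ?_⟩
  · rw [C.form_sub_left, C.form_smul_left, div_mul_cancel₀ _ hbb, sub_self]
  · rw [C.form_sub_left, C.form_smul_left, C.form_swap_zero hw.2, mul_zero, sub_zero, hxw]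

theorem card_orthIn (hF : Fintype.card F = q ^ 2) (hn : 3 ≤ n) {b : V} (hb : b ∈ P.perp)
    (hbb : C.form b b ≠ 0) : Nat.card (orthIn P b) = q ^ (2 * (n - 2 - 1)) := by
  have e : (orthIn P b) × F ≃ P.perp :=
    { toFun := fun p => ⟨p.1.1 + p.2 • b, P.perp.add_mem p.1.2.1 (P.perp.smul_mem _ hb)⟩
      invFun := fun w => (⟨w.1 - (C.form w.1 b / C.form b b) • b,
        P.perp.sub_mem w.2 (P.perp.smul_mem _ hb),
        by rw [C.form_sub_left, C.form_smul_left, div_mul_cancel₀ _ hbb, sub_self]⟩, C.form w.1 b / C.form b b)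
      left_inv := fun p => by
        have h : C.form (p.1.1 + p.2 • b) b / C.form b b = p.2 := by
          rw [C.form_add_left, C.form_smul_left, p.1.2.2, zero_add, mul_div_assoc, div_self hbb, mul_one]
        refine Prod.ext (Subtype.ext ?_) h
        show p.1.1 + p.2 • b - (C.form (p.1.1 + p.2 • b) b / C.form b b) • b = p.1.1
        rw [h, add_sub_cancel_right]
      right_inv := fun w => Subtype.ext (sub_add_cancel _ _) }
  have h := Nat.card_congr e
  rw [Nat.card_prod, natCard_perp, Nat.card_eq_fintype_card (α := F), hF, ← pow_mul] at h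
  obtain ⟨m, hm⟩ : ∃ m, n - 2 = m + 1 := ⟨n - 3, by omega⟩
  rw [hm, mul_add, mul_one, pow_add] at h
  rw [hm, Nat.add_sub_cancel]
  exact Nat.eq_of_mul_eq_mul_right (pow_pos (Nat.pos_of_ne_zero C.q_ne_zero) 2) h

/-- In a self-annihilating group few vectors are orthogonal to an anisotropic one. -/
theorem card_orth_le (hF : Fintype.card F = q ^ 2) (hn : 3 ≤ n) {μ : F} (hμ : μ ∈ zset C) (hμ0 : μ ≠ 0)
    {U : AddSubgroup V} (hU : ∀ a ∈ U, a ∈ P.perp)
    (hiso : ∀ a ∈ U, ∀ b ∈ U, chi F (μ * (C.form a b - C.form b a)) = 1)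
    {b : V} (hb : b ∈ P.perp) (hbb : C.form b b ≠ 0) :
    {a | a ∈ U ∧ C.form a b = 0}.ncard ≤ q ^ (n - 2 - 1) := by
  have h := (altP C n μ).sq_le (altP_nd (orthIn P b) (fun w hw hw0 => orthIn_sep P hb hbb hw hw0) hμ hμ0)
    (S := U ⊓ (orthIn P b).toAddSubgroup) inf_le_right fun x hx y hy => hiso x hx.1 y hy.1
  rw [show Nat.card (orthIn P b).toAddSubgroup = q ^ (2 * (n - 2 - 1)) from card_orthIn P hF hn hb hbb,
    two_mul, pow_add] at h
  rw [← Nat.card_coe_set_eq]
  refine le_trans (le_of_eq (Nat.card_congr (Equiv.subtypeEquivRight fun a => ?_))) (Nat.mul_self_le_mul_self_iff.1 h)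
  exact ⟨fun ha => ⟨ha.1, hU a ha.1, ha.2⟩, fun ha => ⟨ha.1, ha.2.2⟩⟩

theorem card_fixed (hF : Fintype.card F = q ^ 2) : Nat.card {c : F // C.bar c = c} = q := by
  obtain ⟨δ, hδ0, hδ⟩ := C.exists_trace_zero
  refine Eq.trans ?_ (card_zset (C := C) hF)
  refine Nat.card_congr
    { toFun := fun c => ⟨c.1 * δ, zset_mul_fixed hδ c.2⟩
      invFun := fun t => ⟨t.1 * δ⁻¹, mul_fixed_of_zset t.2 (inv_mem_zset hδ)⟩
      left_inv := fun c => Subtype.ext (mul_inv_cancel_right₀ hδ0 c.1)
      right_inv := fun t => Subtype.ext (inv_mul_cancel_right₀ hδ0 t.1) }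

/-- A totally isotropic group in dimension three is small. -/
theorem all_iso_three (hF : Fintype.card F = q ^ 2) (hn : n - 2 = 3) {U : AddSubgroup V}
    (hU : ∀ a ∈ U, a ∈ P.perp) (h0 : ∀ a ∈ U, C.form a a = 0) : Nat.card U ≤ q ^ 2 := by
  classical
  by_cases htriv : ∀ a ∈ U, a = 0
  · haveI : Unique U := ⟨⟨0⟩, fun a => Subtype.ext (htriv a.1 a.2)⟩
    rw [Nat.card_unique]
    exact Nat.one_le_pow _ _ (Nat.pos_of_ne_zero C.q_ne_zero)
  simp only [not_forall] at htriv
  obtain ⟨a, ha, ha0⟩ := htriv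
  let f : U →+ F := AddMonoidHom.mk' (fun w => C.form w.1 a) fun x y => C.form_add_left _ _ _
  have hz : ∀ w : U, f w ∈ zset C := fun w => by
    have h := h0 _ (U.add_mem w.2 ha)
    rw [C.form_add_left, C.form_add_right, C.form_add_right, h0 _ w.2, h0 _ ha] at h
    show C.form w.1 a + C.bar (C.form w.1 a) = 0
    rw [C.bar_form]
    linear_combination h
  have hline : ∀ w : U, f w = 0 → ∃ c : F, w.1 = c • a := by
    intro w hw
    by_contra hcon
    have hw' : C.form w.1 a = 0 := hw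
    have hli : LinearIndependent F ![a, w.1] := by
      rw [linearIndependent_fin2]
      simp only [Matrix.cons_val_one, Matrix.cons_val_zero]
      refine ⟨fun h => hcon ⟨0, by rw [zero_smul]; exact h⟩, fun c hc => ?_⟩
      rcases eq_or_ne c 0 with rfl | hc0
      · rw [zero_smul] at hc; exact ha0 hc.symm
      · exact hcon ⟨c⁻¹, by rw [← hc, smul_smul, inv_mul_cancel₀ hc0, one_smul]⟩
    set M := Submodule.span F (Set.range ![a, w.1]) with hM
    have hgen : ∀ i, ![a, w.1] i ∈ P.perp := fun i => by fin_cases i <;> [exact hU a ha; exact hU _ w.2]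
    have h1 := ts_finrank P (M := M) (Submodule.span_le.2 (by rintro _ ⟨i, rfl⟩; exact hgen i)) (by
      intro x hx y hy
      obtain ⟨c, rfl⟩ := (Submodule.mem_span_range_iff_exists_fun F).1 hx
      obtain ⟨d, rfl⟩ := (Submodule.mem_span_range_iff_exists_fun F).1 hy
      simp [Fin.sum_univ_two, C.form_add_left, C.form_add_right, C.form_smul_left, C.form_smul_right,
        h0 a ha, h0 _ w.2, hw', C.form_swap_zero hw'])
    rw [hM, finrank_span_eq_card hli, Fintype.card_fin] at h1
    omega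
  by_cases hf : ∀ w, f w = 0
  · refine le_trans (Nat.card_le_card_of_injective (fun w : U => (hline w (hf w)).choose) ?_)
      (le_of_eq (by rw [Nat.card_eq_fintype_card, hF]))
    intro x y hxy
    refine Subtype.ext ?_
    rw [(hline x (hf x)).choose_spec, (hline y (hf y)).choose_spec, show (hline x (hf x)).choose = _ from hxy]
  simp only [not_forall] at hf
  obtain ⟨w₀, hw₀⟩ := hf
  have hker : Nat.card f.ker ≤ q := by
    rw [← card_fixed (C := C) hF]
    choose c hc using fun w : f.ker => hline w.1 w.2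
    refine Nat.card_le_card_of_injective (fun w => (⟨c w, ?_⟩ : {c : F // C.bar c = c})) ?_
    · have h := h0 _ (U.add_mem w₀.2 w.1.2)
      rw [C.form_add_left, C.form_add_right, C.form_add_right, h0 _ w₀.2, h0 _ w.1.2, hc w,
        C.form_smul_right, C.form_smul_left, ← C.bar_form w₀.1 a] at h
      have hβ : C.form w₀.1 a ≠ 0 := hw₀
      have hb : C.bar (C.form w₀.1 a) = -C.form w₀.1 a := bar_zset (hz w₀)
      have h2 : (C.bar (c w) - c w) * C.form w₀.1 a = 0 := by
        rw [hb] at h; linear_combination h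
      exact sub_eq_zero.1 ((mul_eq_zero.1 h2).resolve_right hβ)
    · intro x y hxy
      refine Subtype.ext (Subtype.ext ?_)
      rw [hc x, hc y, show c x = c y from congrArg Subtype.val hxy]
  have himg : Nat.card f.range ≤ q := by
    rw [← card_zset (C := C) hF]
    exact Nat.card_le_card_of_injective (fun x : f.range => (⟨x.1, by
      obtain ⟨w, hw⟩ := x.2; exact hw ▸ hz w⟩ : zset C)) fun x y hxy => Subtype.ext (congrArg Subtype.val hxy :)
  rw [AddSubgroup.card_eq_card_quotient_mul_card_addSubgroup f.ker,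
    Nat.card_congr (QuotientAddGroup.quotientKerEquivRange f).toEquiv, pow_two]
  exact Nat.mul_le_mul himg hker

end CfsgLib.PGroup.UnitAll
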